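/-
Elements `u` with `χ 1 - χ u = 4` or `χ u = 0` for every non-principal irreducible `χ`.

* `Hyp`, `Hyp.not_mem`, `Hyp.quot`
* `Hyp.trichotomy` : the non-zero values are `(3,-1)`, `(5,1)`, `(6,2)`
* `setA`, `setB`, `setC` and the counting relations `card_setB`, `card_setA`, `card_centralizer`,
  `npair_self`, `npair_eq`, `orth`
-/
import Cfsg.Agent.Lib.Char.Orth
import Cfsg.Agent.Lib.Char.ClassMult
import Cfsg.Agent.Lib.Char.Linear
import Cfsg.Agent.Lib.ClassCount.CharSum
import Cfsg.Agent.Lib.Codegree.Basic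

set_option autoImplicit false
set_option linter.style.haveILetI false

namespace Cfsg.Agent.FourConst

open Cfsg Cfsg.Agent
open scoped ComplexConjugate

variable {G : Type*} [Group G] {u : G}

/-- The standing hypothesis (with perfectness). -/
structure Hyp (u : G) : Prop where
  ne : u ≠ 1
  perfect : commutator G = ⊤
  val : ∀ χ : IrrCharacter G, (χ : G → ℂ) ≠ (fun _ => (1 : ℂ)) →
    ((χ : G → ℂ) 1 - (χ : G → ℂ) u = 4 ∨ (χ : G → ℂ) u = 0)

/-- The principal character. -/
noncomputable def prin (G : Type*) [Group G] : IrrCharacter G := ⟨fun _ => 1, Char.isIrrCharacter_one⟩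

theorem prin_apply (g : G) : (prin G : G → ℂ) g = 1 := rfl

theorem ne_const {χ : IrrCharacter G} (h : χ ≠ prin G) : (χ : G → ℂ) ≠ fun _ => (1 : ℂ) :=
  fun e => h (Subtype.ext e)

/-- A homomorphism of a perfect group into a commutative monoid is trivial. -/
theorem hom_trivial {M : Type*} [CommMonoid M] (hp : commutator G = ⊤) (l : G →* M) (g : G) :
    l g = 1 := by
  have hle : commutator G ≤ l.toHomUnits.ker := Abelianization.commutator_subset_ker _
  have : l.toHomUnits g = 1 := hle (hp ▸ Subgroup.mem_top g)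
  exact congrArg Units.val this

variable [Finite G]

theorem exists_ne_prin [Nontrivial G] : ∃ χ : IrrCharacter G, χ ≠ prin G := by
  classical
  by_contra hall
  push Not at hall
  have := Fintype.ofFinite G
  have := Fintype.ofFinite (IrrCharacter G)
  obtain ⟨g, hg⟩ := exists_ne (1 : G)
  have h := Char.sum_degree_mul_apply (G := G) g
  rw [if_neg hg, Finset.sum_eq_single (prin G) (fun χ _ hχ => absurd (hall χ) hχ)
    (fun hn => absurd (Finset.mem_univ _) hn), prin_apply, prin_apply, one_mul] at h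
  exact one_ne_zero h

theorem degree_one (hp : commutator G = ⊤) {χ : IrrCharacter G} (h1 : (χ : G → ℂ) 1 = 1) :
    χ = prin G := by
  obtain ⟨l, hl⟩ := Char.exists_hom_of_degree_one (Char.IsIrrCharacter.isCharacter χ.2) h1
  exact Subtype.ext (funext fun g => by rw [← hl]; exact hom_trivial hp l g)

theorem Hyp.not_mem (h : Hyp u) {N : Subgroup G} [N.Normal] (hN : N ≠ ⊤) : u ∉ N := by
  intro hu
  haveI : Nontrivial (G ⧸ N) := QuotientGroup.nontrivial_iff.2 hN
  obtain ⟨ψ, hψ⟩ := exists_ne_prin (G := G ⧸ N)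
  have e : (u : G ⧸ N) = 1 := (QuotientGroup.eq_one_iff u).2 hu
  have hne : (Codegree.inflate N ψ : G → ℂ) ≠ fun _ => (1 : ℂ) := fun e' => hψ (Subtype.ext (funext fun x => by
    obtain ⟨g, rfl⟩ := QuotientGroup.mk_surjective x
    exact congrFun e' g))
  have h2 := h.val (Codegree.inflate N ψ) hne
  rw [Codegree.inflate_apply, Codegree.inflate_apply, QuotientGroup.mk_one, e, sub_self] at h2
  rcases h2 with h2 | h2
  · exact absurd h2.symm (by norm_num)
  · exact Char.IsIrrCharacter.apply_one_ne_zero ψ.2 h2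

theorem Hyp.quot (h : Hyp u) {N : Subgroup G} [N.Normal] (hu : u ∉ N) : Hyp (u : G ⧸ N) where
  ne := fun e => hu ((QuotientGroup.eq_one_iff u).1 e)
  perfect := by
    have := Subgroup.map_commutator (⊤ : Subgroup G) ⊤ (QuotientGroup.mk' N)
    rw [Subgroup.map_top_of_surjective _ (QuotientGroup.mk'_surjective N), ← _root_.commutator_def,
      h.perfect, Subgroup.map_top_of_surjective _ (QuotientGroup.mk'_surjective N)] at this
    exact this.symm
  val ψ hψ := by
    have hne : (Codegree.inflate N ψ : G → ℂ) ≠ fun _ => (1 : ℂ) := fun e => hψ (funext fun x => by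
      obtain ⟨g, rfl⟩ := QuotientGroup.mk_surjective x
      exact congrFun e g)
    have := h.val (Codegree.inflate N ψ) hne
    rwa [Codegree.inflate_apply, Codegree.inflate_apply, QuotientGroup.mk_one] at this

theorem Hyp.value (h : Hyp u) {χ : IrrCharacter G} (hχ : χ ≠ prin G) :
    (χ : G → ℂ) u = 0 ∨ (χ : G → ℂ) u = (χ : G → ℂ) 1 - 4 := by
  rcases h.val χ (ne_const hχ) with e | e
  · exact Or.inr (by linear_combination -e)
  · exact Or.inl e

theorem exists_nat_degree (χ : IrrCharacter G) : ∃ n : ℕ, 0 < n ∧ (χ : G → ℂ) 1 = n := by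
  obtain ⟨n, hn, he, -⟩ := ClassCount.exists_degree_eq χ
  exact ⟨n, hn, he⟩

theorem decompose_at [Fintype G] [Fintype (IrrCharacter G)] {θ : G → ℂ} (hθ : IsCharacter G θ) :
    ∃ m : IrrCharacter G → ℕ, (∀ g, θ g = ∑ φ, (m φ : ℂ) * (φ : G → ℂ) g) ∧
      ∀ φ : IrrCharacter G, classInner θ (φ : G → ℂ) = m φ := by
  obtain ⟨m, hm, hin⟩ := Char.IsCharacter.decompose hθ
  refine ⟨m, fun g => ?_, hin⟩
  conv_lhs => rw [hm]
  simp [Finset.sum_apply]

theorem degree_ne_two (h : Hyp u) {χ : IrrCharacter G} (hv : (χ : G → ℂ) u ≠ 0) :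
    (χ : G → ℂ) 1 ≠ 2 := by
  classical
  intro h2
  have := Fintype.ofFinite G
  have := Fintype.ofFinite (IrrCharacter G)
  have hne : χ ≠ prin G := fun e => by rw [e, prin_apply] at h2; norm_num at h2
  have hu2 : (χ : G → ℂ) u = -2 := by
    rw [(h.value hne).resolve_left hv, h2]; norm_num
  have hc := Char.IsIrrCharacter.isCharacter χ.2
  obtain ⟨m, hm, hin⟩ := decompose_at (Char.IsCharacter.mul hc (Char.IsCharacter.conj hc))
  have hone : m (prin G) = 1 := by
    have e : classInner ((χ : G → ℂ) * fun g => conj ((χ : G → ℂ) g)) (prin G : G → ℂ) =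
        classInner (χ : G → ℂ) (χ : G → ℂ) := by
      simp [classInner, prin_apply]
    have := (hin (prin G)).symm.trans (e.trans (Char.classInner_irr_self χ.2))
    exact_mod_cast this
  have h4u : ∑ φ, (m φ : ℂ) * (φ : G → ℂ) u = 4 := by
    rw [← hm, Pi.mul_apply, hu2]; norm_num [map_ofNat]
  have h41 : ∑ φ, (m φ : ℂ) * (φ : G → ℂ) 1 = 4 := by
    rw [← hm, Pi.mul_apply, h2]; norm_num [map_ofNat]
  have hd : ∀ φ : IrrCharacter G, φ ≠ prin G → m φ ≠ 0 →
      (0 : ℝ) < ((m φ : ℂ) * (φ : G → ℂ) 1 - (m φ : ℂ) * (φ : G → ℂ) u).re := by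
    intro φ hφ hm0
    obtain ⟨n, hn, he⟩ := exists_nat_degree φ
    have hm' : (0 : ℝ) < m φ := by exact_mod_cast Nat.pos_of_ne_zero hm0
    have hn' : (0 : ℝ) < n := by exact_mod_cast hn
    rcases h.value hφ with e | e <;> rw [e, he] <;> simp <;> nlinarith
  have hz : ∀ φ : IrrCharacter G, φ ≠ prin G → m φ = 0 := by
    intro φ hφ
    by_contra hm0
    have hsum : ∑ φ, ((m φ : ℂ) * (φ : G → ℂ) 1 - (m φ : ℂ) * (φ : G → ℂ) u).re = 0 := by
      rw [← Complex.re_sum, Finset.sum_sub_distrib, h4u, h41, sub_self, Complex.zero_re]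
    have hnn : ∀ ψ ∈ (Finset.univ : Finset (IrrCharacter G)),
        (0 : ℝ) ≤ ((m ψ : ℂ) * (ψ : G → ℂ) 1 - (m ψ : ℂ) * (ψ : G → ℂ) u).re := by
      intro ψ _
      by_cases hψ : ψ = prin G
      · simp [hψ, prin_apply]
      · by_cases hmψ : m ψ = 0
        · simp [hmψ]
        · exact (hd ψ hψ hmψ).le
    have := (Finset.sum_eq_zero_iff_of_nonneg hnn).1 hsum φ (Finset.mem_univ _)
    exact absurd this (hd φ hφ hm0).ne'
  rw [Finset.sum_eq_single (prin G) (fun φ _ hφ => by rw [hz φ hφ]; simp)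
    (fun hn => absurd (Finset.mem_univ _) hn), hone, prin_apply] at h41
  norm_num at h41

/-- `3 φ u + φ 1 ≥ 0` for irreducible `φ`. -/
theorem weight_nonneg (h : Hyp u) (φ : IrrCharacter G) :
    0 ≤ (3 * (φ : G → ℂ) u + (φ : G → ℂ) 1).re := by
  by_cases hφ : φ = prin G
  · subst hφ; simp [prin_apply]; norm_num
  obtain ⟨n, hn, he⟩ := exists_nat_degree φ
  rcases h.value hφ with e | e
  · rw [e, he]; simp
  · by_cases h0 : (φ : G → ℂ) u = 0
    · rw [h0, he]; simp
    have h1 : n ≠ 1 := fun h1 => hφ (degree_one h.perfect (by rw [he, h1, Nat.cast_one]))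
    have h2 : n ≠ 2 := fun h2 => degree_ne_two h h0 (by rw [he, h2, Nat.cast_ofNat])
    have h3 : (3 : ℝ) ≤ n := by
      have : 3 ≤ n := by omega
      exact_mod_cast this
    rw [e, he]; simp; linarith

/-- The non-zero values on non-principal characters. -/
theorem Hyp.trichotomy (h : Hyp u) {χ : IrrCharacter G} (hχ : χ ≠ prin G)
    (hv : (χ : G → ℂ) u ≠ 0) :
    ((χ : G → ℂ) 1 = 3 ∧ (χ : G → ℂ) u = -1) ∨ ((χ : G → ℂ) 1 = 5 ∧ (χ : G → ℂ) u = 1) ∨
      ((χ : G → ℂ) 1 = 6 ∧ (χ : G → ℂ) u = 2) := by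
  classical
  have := Fintype.ofFinite G
  have := Fintype.ofFinite (IrrCharacter G)
  -- some character takes a negative value
  have hneg : ∃ ψ : IrrCharacter G, (ψ : G → ℂ) 1 = 3 ∧ (ψ : G → ℂ) u = -1 := by
    by_contra hno
    push Not at hno
    have hs := Char.sum_degree_mul_apply (G := G) u
    rw [if_neg h.ne] at hs
    have hre := congrArg Complex.re hs
    rw [Complex.re_sum, Complex.zero_re] at hre
    have hnn : ∀ ψ ∈ (Finset.univ : Finset (IrrCharacter G)),
        (0 : ℝ) ≤ ((ψ : G → ℂ) 1 * (ψ : G → ℂ) u).re := by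
      intro ψ _
      by_cases hψ : ψ = prin G
      · simp [hψ, prin_apply]
      obtain ⟨n, hn, he⟩ := exists_nat_degree ψ
      by_cases h0 : (ψ : G → ℂ) u = 0
      · simp [h0]
      have e := (h.value hψ).resolve_left h0
      have h1 : n ≠ 1 := fun h1 => hψ (degree_one h.perfect (by rw [he, h1, Nat.cast_one]))
      have h2 : n ≠ 2 := fun h2 => degree_ne_two h h0 (by rw [he, h2, Nat.cast_ofNat])
      have h3 : n ≠ 3 := fun h3 => hno ψ (by rw [he, h3, Nat.cast_ofNat])
        (by rw [e, he, h3]; norm_num)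
      have h4 : (4 : ℝ) ≤ n := by
        have : 4 ≤ n := by omega
        exact_mod_cast this
      rw [e, he]; simp; nlinarith
    have := (Finset.sum_eq_zero_iff_of_nonneg hnn).1 hre (prin G) (Finset.mem_univ _)
    simp [prin_apply] at this
  obtain ⟨n, hn, he⟩ := exists_nat_degree χ
  have e := (h.value hχ).resolve_left hv
  have h1 : n ≠ 1 := fun h1 => hχ (degree_one h.perfect (by rw [he, h1, Nat.cast_one]))
  have h2 : n ≠ 2 := fun h2 => degree_ne_two h hv (by rw [he, h2, Nat.cast_ofNat])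
  have h4 : n ≠ 4 := fun h4 => hv (by rw [e, he, h4]; norm_num)
  rw [he] at e
  by_cases h5 : n ≤ 3
  · left
    obtain rfl : n = 3 := by omega
    exact ⟨by rw [he]; norm_num, by rw [e]; norm_num⟩
  obtain ⟨ψ, hψ1, hψu⟩ := hneg
  have hn4 : (4 : ℝ) < n := by
    have : 4 < n := by omega
    exact_mod_cast this
  have hχc := Char.IsIrrCharacter.isCharacter χ.2
  have hψc := Char.IsIrrCharacter.isCharacter ψ.2
  obtain ⟨m, hm, hin⟩ := decompose_at (Char.IsCharacter.mul hχc hψc)
  obtain ⟨φ, hmφ, hφneg⟩ : ∃ φ : IrrCharacter G, m φ ≠ 0 ∧ ((φ : G → ℂ) u).re < 0 := by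
    by_contra hno
    push Not at hno
    have hval := congrArg Complex.re (hm u)
    rw [Pi.mul_apply, hψu, e, Complex.re_sum] at hval
    have hnn : (0 : ℝ) ≤ ∑ φ, ((m φ : ℂ) * (φ : G → ℂ) u).re := by
      refine Finset.sum_nonneg fun φ _ => ?_
      by_cases h0 : m φ = 0
      · simp [h0]
      · simp only [Complex.mul_re, Complex.natCast_re, Complex.natCast_im, zero_mul, sub_zero]
        exact mul_nonneg (Nat.cast_nonneg _) (hno φ h0)
    rw [← hval] at hnn
    simp at hnn
    exact absurd (show (n : ℝ) ≤ 4 by exact_mod_cast hnn) (not_le.2 hn4)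
  have hφne : φ ≠ prin G := fun e' => by
    rw [e', prin_apply] at hφneg; exact absurd hφneg (by simp)
  have hφv : (φ : G → ℂ) u ≠ 0 := fun e' => by rw [e'] at hφneg; simp at hφneg
  obtain ⟨k, hk, hke⟩ := exists_nat_degree φ
  have ek := (h.value hφne).resolve_left hφv
  have hk1 : k ≠ 1 := fun h1 => hφne (degree_one h.perfect (by rw [hke, h1, Nat.cast_one]))
  have hk2 : k ≠ 2 := fun h2 => degree_ne_two h hφv (by rw [hke, h2, Nat.cast_ofNat])
  obtain rfl : k = 3 := by
    rw [ek, hke] at hφneg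
    simp at hφneg
    have : k < 4 := by exact_mod_cast hφneg
    omega
  obtain ⟨r, hr, hrin⟩ := decompose_at
    (Char.IsCharacter.mul (Char.IsIrrCharacter.isCharacter φ.2) (Char.IsCharacter.conj hψc))
  have hrχ : r χ = m φ := by
    have e1 : classInner ((φ : G → ℂ) * fun g => conj ((ψ : G → ℂ) g)) (χ : G → ℂ) =
        conj (classInner ((χ : G → ℂ) * (ψ : G → ℂ)) (φ : G → ℂ)) := by
      rw [Char.classInner_conj_symm]
      simp only [classInner, Pi.mul_apply, map_mul]
      congr 1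
      exact Finset.sum_congr rfl fun g _ => by ring
    rw [hin, Complex.conj_natCast, hrin] at e1
    exact_mod_cast e1
  have hw : ∑ ω, ((r ω : ℝ) * (3 * (ω : G → ℂ) u + (ω : G → ℂ) 1).re) = 12 := by
    have hre1 := congrArg Complex.re (hr u)
    have hre2 := congrArg Complex.re (hr 1)
    rw [Pi.mul_apply, Complex.re_sum] at hre1 hre2
    rw [ek, hke, hψu] at hre1
    rw [hke, hψ1] at hre2
    simp at hre1 hre2
    simp only [Complex.add_re, Complex.mul_re, Complex.re_ofNat, Complex.im_ofNat, zero_mul,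
      sub_zero, mul_add, Finset.sum_add_distrib]
    simp only [← mul_assoc, mul_comm _ (3 : ℝ)]
    simp only [mul_assoc, ← Finset.mul_sum]
    rw [← hre1, ← hre2]; norm_num
  have hle := Finset.single_le_sum (f := fun ω => (r ω : ℝ) * (3 * (ω : G → ℂ) u + (ω : G → ℂ) 1).re)
    (fun ω _ => mul_nonneg (Nat.cast_nonneg _) (weight_nonneg h ω)) (Finset.mem_univ χ)
  rw [hw, hrχ, e, he] at hle
  simp at hle
  have hm1 : (1 : ℝ) ≤ m φ := by exact_mod_cast Nat.pos_of_ne_zero hmφ
  have hn6 : (n : ℝ) ≤ 6 := by nlinarith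
  have : n ≤ 6 := by exact_mod_cast hn6
  right
  obtain rfl | rfl : n = 5 ∨ n = 6 := by omega
  · exact Or.inl ⟨by rw [he]; norm_num, by rw [e]; norm_num⟩
  · exact Or.inr ⟨by rw [he]; norm_num, by rw [e]; norm_num⟩

/-! ### The three sets of characters -/

/-- Value `-1` (degree 3). -/
noncomputable def setA (u : G) : Finset (IrrCharacter G) :=
  (Set.toFinite {χ : IrrCharacter G | (χ : G → ℂ) u = -1}).toFinset

/-- Value `1`, non-principal (degree 5). -/
noncomputable def setB (u : G) : Finset (IrrCharacter G) :=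
  (Set.toFinite {χ : IrrCharacter G | (χ : G → ℂ) u = 1 ∧ χ ≠ prin G}).toFinset

/-- Value `2` (degree 6). -/
noncomputable def setC (u : G) : Finset (IrrCharacter G) :=
  (Set.toFinite {χ : IrrCharacter G | (χ : G → ℂ) u = 2}).toFinset

theorem mem_setA {χ : IrrCharacter G} : χ ∈ setA u ↔ (χ : G → ℂ) u = -1 := by simp [setA]

theorem mem_setB {χ : IrrCharacter G} : χ ∈ setB u ↔ (χ : G → ℂ) u = 1 ∧ χ ≠ prin G := by
  simp [setB]

theorem mem_setC {χ : IrrCharacter G} : χ ∈ setC u ↔ (χ : G → ℂ) u = 2 := by simp [setC]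

theorem ne_prin_setA {χ : IrrCharacter G} (hχ : χ ∈ setA u) : χ ≠ prin G := fun e => by
  rw [e, mem_setA, prin_apply] at hχ; norm_num at hχ

theorem ne_prin_setC {χ : IrrCharacter G} (hχ : χ ∈ setC u) : χ ≠ prin G := fun e => by
  rw [e, mem_setC, prin_apply] at hχ; norm_num at hχ

theorem Hyp.deg_setA (h : Hyp u) {χ : IrrCharacter G} (hχ : χ ∈ setA u) : (χ : G → ℂ) 1 = 3 := by
  have hu := mem_setA.1 hχ
  rcases h.trichotomy (ne_prin_setA hχ) (by rw [hu]; norm_num) with ⟨a, -⟩ | ⟨-, b⟩ | ⟨-, b⟩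
  · exact a
  · rw [hu] at b; norm_num at b
  · rw [hu] at b; norm_num at b

theorem Hyp.deg_setB (h : Hyp u) {χ : IrrCharacter G} (hχ : χ ∈ setB u) : (χ : G → ℂ) 1 = 5 := by
  obtain ⟨hu, hne⟩ := mem_setB.1 hχ
  rcases h.trichotomy hne (by rw [hu]; norm_num) with ⟨-, b⟩ | ⟨a, -⟩ | ⟨-, b⟩
  · rw [hu] at b; norm_num at b
  · exact a
  · rw [hu] at b; norm_num at b

theorem Hyp.deg_setC (h : Hyp u) {χ : IrrCharacter G} (hχ : χ ∈ setC u) : (χ : G → ℂ) 1 = 6 := by
  have hu := mem_setC.1 hχ
  rcases h.trichotomy (ne_prin_setC hχ) (by rw [hu]; norm_num) with ⟨-, b⟩ | ⟨-, b⟩ | ⟨a, -⟩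
  · rw [hu] at b; norm_num at b
  · rw [hu] at b; norm_num at b
  · exact a

theorem Hyp.split (h : Hyp u) [Fintype (IrrCharacter G)] (f : IrrCharacter G → ℂ)
    (hf : ∀ χ : IrrCharacter G, (χ : G → ℂ) u = 0 → f χ = 0) :
    ∑ χ, f χ = f (prin G) + ∑ χ ∈ setA u, f χ + ∑ χ ∈ setB u, f χ + ∑ χ ∈ setC u, f χ := by
  classical
  have hpt : ∀ χ, f χ = (if χ ∈ ({prin G} : Finset _) then f χ else 0) + (if χ ∈ setA u then f χ else 0)
      + (if χ ∈ setB u then f χ else 0) + (if χ ∈ setC u then f χ else 0) := by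
    intro χ
    by_cases hχ : χ = prin G
    · subst hχ
      rw [if_pos (Finset.mem_singleton_self _), if_neg (fun hh => ne_prin_setA hh rfl),
        if_neg (fun hh => (mem_setB.1 hh).2 rfl), if_neg (fun hh => ne_prin_setC hh rfl)]
      simp
    rw [if_neg (by simp [hχ]), zero_add]
    by_cases hv : (χ : G → ℂ) u = 0
    · simp [hf χ hv]
    rcases h.trichotomy hχ hv with ⟨-, b⟩ | ⟨-, b⟩ | ⟨-, b⟩
    · rw [if_pos (mem_setA.2 b), if_neg (fun hh => by rw [(mem_setB.1 hh).1] at b; norm_num at b),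
        if_neg (fun hh => by rw [mem_setC.1 hh] at b; norm_num at b)]
      simp
    · rw [if_neg (fun hh => by rw [mem_setA.1 hh] at b; norm_num at b), if_pos (mem_setB.2 ⟨b, hχ⟩),
        if_neg (fun hh => by rw [mem_setC.1 hh] at b; norm_num at b)]
      simp
    · rw [if_neg (fun hh => by rw [mem_setA.1 hh] at b; norm_num at b),
        if_neg (fun hh => by rw [(mem_setB.1 hh).1] at b; norm_num at b), if_pos (mem_setC.2 b)]
      simp
  rw [Finset.sum_congr rfl fun χ _ => hpt χ]
  simp [Finset.sum_add_distrib, Finset.sum_ite_mem]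

theorem Hyp.degree_relation (h : Hyp u) :
    3 * (setA u).card = 5 * (setB u).card + 12 * (setC u).card + 1 := by
  classical
  have := Fintype.ofFinite G
  have := Fintype.ofFinite (IrrCharacter G)
  have hs := Char.sum_degree_mul_apply (G := G) u
  rw [if_neg h.ne, h.split _ (fun (χ : IrrCharacter G) hχ => by rw [hχ, mul_zero]),
    Finset.sum_congr rfl fun χ hχ => by rw [h.deg_setA hχ, mem_setA.1 hχ],
    Finset.sum_congr (s₁ := setB u) rfl fun χ hχ => by rw [h.deg_setB hχ, (mem_setB.1 hχ).1],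
    Finset.sum_congr (s₁ := setC u) rfl fun χ hχ => by rw [h.deg_setC hχ, mem_setC.1 hχ]] at hs
  simp [prin_apply] at hs
  have : ((3 * (setA u).card : ℕ) : ℂ) = ((5 * (setB u).card + 12 * (setC u).card + 1 : ℕ) : ℂ) := by
    push_cast; linear_combination -hs
  exact_mod_cast this

theorem Hyp.centralizer_relation (h : Hyp u) :
    Nat.card (Subgroup.centralizer ({u} : Set G)) =
      1 + (setA u).card + (setB u).card + 4 * (setC u).card := by
  classical
  have := Fintype.ofFinite (IrrCharacter G)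
  have hs := Char.column_orth u u
  rw [if_pos (IsConj.refl u), h.split _ (fun (χ : IrrCharacter G) hχ => by rw [hχ, zero_mul]),
    Finset.sum_congr rfl fun χ hχ => by rw [mem_setA.1 hχ],
    Finset.sum_congr (s₁ := setB u) rfl fun χ hχ => by rw [(mem_setB.1 hχ).1],
    Finset.sum_congr (s₁ := setC u) rfl fun χ hχ => by rw [mem_setC.1 hχ]] at hs
  simp [prin_apply, map_ofNat] at hs
  have : ((Nat.card (Subgroup.centralizer ({u} : Set G)) : ℕ) : ℂ) =
      ((1 + (setA u).card + (setB u).card + 4 * (setC u).card : ℕ) : ℂ) := by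
    push_cast
    linear_combination -hs
  exact_mod_cast this

/-- Number of pairs of conjugates of `u` with a given product. -/
noncomputable def npair (u g : G) : ℕ :=
  Nat.card {p : G × G // IsConj u p.1 ∧ IsConj u p.2 ∧ p.1 * p.2 = g}

/-- Number of conjugates of `u`. -/
noncomputable def csize (u : G) : ℕ := Nat.card {x : G // IsConj u x}

theorem csize_pos (u : G) : 0 < csize u := by
  have : Nonempty {x : G // IsConj u x} := ⟨⟨u, IsConj.refl u⟩⟩
  exact Nat.card_pos

theorem csize_mul (u : G) :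
    csize u * Nat.card (Subgroup.centralizer ({u} : Set G)) = Nat.card G :=
  ClassCount.card_class_mul_card_centralizer u

/-- Sum of the conjugate values over one of the sets. -/
noncomputable def valSum (s : Finset (IrrCharacter G)) (g : G) : ℂ :=
  ∑ χ ∈ s, conj ((χ : G → ℂ) g)

theorem Hyp.npair_eq (h : Hyp u) (g : G) :
    (npair u g : ℂ) = (csize u : ℂ) ^ 2 / (Nat.card G : ℂ) *
      (1 + valSum (setA u) g / 3 + valSum (setB u) g / 5 + 2 * valSum (setC u) g / 3) := by
  classical
  have := Fintype.ofFinite (IrrCharacter G)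
  rw [npair, Char.class_mult_formula, h.split _ (fun (χ : IrrCharacter G) hχ => by simp [hχ]),
    Finset.sum_congr rfl fun χ hχ => by rw [mem_setA.1 hχ, h.deg_setA hχ],
    Finset.sum_congr (s₁ := setB u) rfl fun χ hχ => by rw [(mem_setB.1 hχ).1, h.deg_setB hχ],
    Finset.sum_congr (s₁ := setC u) rfl fun χ hχ => by rw [mem_setC.1 hχ, h.deg_setC hχ]]
  simp only [prin_apply, valSum, csize, map_one, Finset.sum_div, Finset.mul_sum]
  ring_nf

theorem Hyp.orth (h : Hyp u) {g : G} (hg : ¬ IsConj u g) :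
    1 - valSum (setA u) g + valSum (setB u) g + 2 * valSum (setC u) g = 0 := by
  classical
  have := Fintype.ofFinite (IrrCharacter G)
  have hs := Char.column_orth u g
  rw [if_neg hg, h.split _ (fun (χ : IrrCharacter G) hχ => by rw [hχ, zero_mul]),
    Finset.sum_congr rfl fun χ hχ => by rw [mem_setA.1 hχ],
    Finset.sum_congr (s₁ := setB u) rfl fun χ hχ => by rw [(mem_setB.1 hχ).1],
    Finset.sum_congr (s₁ := setC u) rfl fun χ hχ => by rw [mem_setC.1 hχ]] at hs
  simp only [prin_apply, valSum, map_one, Finset.mul_sum, neg_mul, one_mul,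
    Finset.sum_neg_distrib] at hs ⊢
  linear_combination hs

omit [Finite G] in
theorem valSum_self (s : Finset (IrrCharacter G)) {v : ℂ} (hs : ∀ χ ∈ s, (χ : G → ℂ) u = v) :
    valSum s u = s.card * conj v := by
  rw [valSum, Finset.sum_congr rfl fun χ hχ => by rw [hs χ hχ]]
  simp

theorem Hyp.card_setB (h : Hyp u) : (setB u).card = 1 := by
  have hd := h.degree_relation
  have he := h.npair_eq u
  rw [valSum_self (setA u) (fun χ hχ => mem_setA.1 hχ),
    valSum_self (setB u) (fun χ hχ => (mem_setB.1 hχ).1),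
    valSum_self (setC u) (fun χ hχ => mem_setC.1 hχ)] at he
  simp only [map_neg, map_one, map_ofNat] at he
  have hd' : 3 * ((setA u).card : ℂ) = 5 * (setB u).card + 12 * (setC u).card + 1 := by
    exact_mod_cast hd
  have he' : ((45 * npair u u * Nat.card G : ℕ) : ℤ) =
      (csize u : ℤ) ^ 2 * (40 - 16 * ((setB u).card : ℤ)) := by
    have hG : (Nat.card G : ℂ) ≠ 0 := Nat.cast_ne_zero.2 Nat.card_pos.ne'
    have : ((45 * npair u u * Nat.card G : ℕ) : ℂ) =
        (csize u : ℂ) ^ 2 * (40 - 16 * ((setB u).card : ℂ)) := by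
      push_cast
      rw [he]
      field_simp
      linear_combination (-75) * (csize u : ℂ) ^ 2 * hd'
    exact_mod_cast this
  have h0 : (0 : ℤ) ≤ 40 - 16 * ((setB u).card : ℤ) := by
    have hc : (0 : ℤ) < (csize u : ℤ) ^ 2 := by
      have := csize_pos u
      positivity
    nlinarith [Int.natCast_nonneg (45 * npair u u * Nat.card G)]
  omega

theorem Hyp.card_setA (h : Hyp u) : (setA u).card = 4 * (setC u).card + 2 := by
  have := h.degree_relation
  rw [h.card_setB] at this
  omega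

theorem Hyp.card_centralizer (h : Hyp u) :
    Nat.card (Subgroup.centralizer ({u} : Set G)) = 4 + 8 * (setC u).card := by
  rw [h.centralizer_relation, h.card_setA, h.card_setB]; omega

theorem Hyp.npair_self (h : Hyp u) :
    15 * npair u u * Nat.card G = 8 * csize u ^ 2 := by
  have he := h.npair_eq u
  rw [valSum_self (setA u) (fun χ hχ => mem_setA.1 hχ),
    valSum_self (setB u) (fun χ hχ => (mem_setB.1 hχ).1),
    valSum_self (setC u) (fun χ hχ => mem_setC.1 hχ), h.card_setA, h.card_setB] at he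
  simp only [map_neg, map_one, map_ofNat] at he
  have hG : (Nat.card G : ℂ) ≠ 0 := Nat.cast_ne_zero.2 Nat.card_pos.ne'
  have : ((15 * npair u u * Nat.card G : ℕ) : ℂ) = ((8 * csize u ^ 2 : ℕ) : ℂ) := by
    push_cast at he ⊢
    rw [he]
    field_simp
    ring
  exact_mod_cast this

theorem Hyp.setA_nonempty (h : Hyp u) : (setA u).Nonempty := by
  rw [← Finset.card_pos, h.card_setA]; omega

end Cfsg.Agent.FourConst
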