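/-
Representation facts used for the degree three characters: determinants, involutions, coordinates.

* `det_one`, `involution_value`, `Model`, `exists_model`
-/
import Cfsg.Agent.Lib.FourConst.Basic
import Cfsg.Agent.Lib.Char.Eigen
import Cfsg.Agent.Lib.CharApp.Schur

set_option autoImplicit false

namespace Cfsg.Agent.FourConst

open Cfsg Cfsg.Agent Module

variable {G : Type*} [Group G]

theorem det_one (hp : commutator G = ⊤) {V : Type*} [AddCommGroup V] [Module ℂ V]
    (ρ : Representation ℂ G V) (g : G) : LinearMap.det (ρ g) = 1 :=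
  hom_trivial hp ((LinearMap.det : Module.End ℂ V →* ℂ).comp ρ) g

theorem exists_rep {χ : IrrCharacter G} {n : ℕ} (h1 : (χ : G → ℂ) 1 = n) :
    ∃ ρ : Representation ℂ G (Fin n → ℂ), ρ.IsIrreducible ∧ ρ.character = (χ : G → ℂ) := by
  obtain ⟨k, ρ, hi, he⟩ := χ.2
  rw [← he, Representation.char_one, Module.finrank_fin_fun] at h1
  obtain rfl : k = n := by exact_mod_cast h1
  exact ⟨ρ, hi, he⟩

variable [Finite G]

theorem exists_eigen {n : ℕ} (ρ : Representation ℂ G (Fin n → ℂ)) (g : G) :
    ∃ μ : Fin n → ℂ, (∀ i, μ i ^ orderOf g = 1) ∧ (∀ m : ℕ, ρ.character (g ^ m) = ∑ i, μ i ^ m) ∧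
      LinearMap.det (ρ g) = ∏ i, μ i := by
  obtain ⟨b, μ, hb, hroot⟩ := Char.exists_eigenbasis ρ g
  let e : Fin (finrank ℂ (Fin n → ℂ)) ≃ Fin n := finCongr (Module.finrank_fin_fun ℂ)
  refine ⟨μ ∘ e.symm, fun i => hroot _, fun m => ?_, ?_⟩
  · rw [Char.character_pow ρ g b μ hb m]
    exact (Equiv.sum_comp e.symm (fun i => μ i ^ m)).symm
  · have hd : LinearMap.toMatrix b b (ρ g) = Matrix.diagonal μ := by
      ext i j
      rw [LinearMap.toMatrix_apply, hb j, map_smul, b.repr_self, Finsupp.smul_single, smul_eq_mul,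
        mul_one, Matrix.diagonal_apply, Finsupp.single_apply]
      by_cases hij : i = j
      · subst hij; simp
      · rw [if_neg hij, if_neg (fun e => hij e.symm)]
    rw [← LinearMap.det_toMatrix b, hd, Matrix.det_diagonal]
    exact (Equiv.prod_comp e.symm μ).symm

/-- Values of a character of a perfect group on an involution. -/
theorem involution_value (hp : commutator G = ⊤) {χ : IrrCharacter G} {n : ℕ}
    (h1 : (χ : G → ℂ) 1 = n) {z : G} (hz : z * z = 1) :
    ∃ k : ℕ, k ≤ n ∧ Even k ∧ (χ : G → ℂ) z = (n : ℂ) - 2 * k := by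
  classical
  obtain ⟨ρ, -, hρ⟩ := exists_rep h1
  obtain ⟨μ, hroot, hpow, hdet⟩ := exists_eigen ρ z
  have hsq : ∀ i, μ i = 1 ∨ μ i = -1 := by
    intro i
    have h2 : orderOf z ∣ 2 := orderOf_dvd_of_pow_eq_one (by rw [pow_two]; exact hz)
    obtain ⟨r, hr⟩ := h2
    have : μ i ^ 2 = 1 := by rw [hr, pow_mul, hroot i, one_pow]
    exact sq_eq_one_iff.1 this
  set S := Finset.univ.filter (fun i => μ i = -1) with hS
  refine ⟨S.card, (Finset.card_le_univ S).trans (by simp), ?_, ?_⟩
  · rw [det_one hp ρ z] at hdet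
    have hval : ∀ i, μ i = if i ∈ S then -1 else 1 := by
      intro i
      by_cases hi : μ i = -1
      · rw [if_pos (by simp [S, hi])]; exact hi
      · rw [if_neg (by simp [S, hi])]; exact (hsq i).resolve_right hi
    rw [Finset.prod_congr rfl fun i _ => hval i, Finset.prod_ite_mem, Finset.univ_inter,
      Finset.prod_const] at hdet
    exact (neg_one_pow_eq_one_iff_even (by norm_num)).1 hdet.symm
  · have hval : ∀ i, μ i = 1 - 2 * (if i ∈ S then 1 else 0 : ℂ) := by
      intro i
      by_cases hi : μ i = -1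
      · rw [if_pos (by simp [S, hi]), hi]; norm_num
      · rw [if_neg (by simp [S, hi]), (hsq i).resolve_right hi]; norm_num
    have := hpow 1
    simp only [pow_one] at this
    rw [← hρ, this, Finset.sum_congr rfl fun i _ => hval i, Finset.sum_sub_distrib, ← Finset.mul_sum]
    simp

theorem Hyp.value_sq {u : G} (h : Hyp u) {χ : IrrCharacter G} (hχ : χ ∈ setA u) :
    (χ : G → ℂ) (u ^ 2) = 3 := by
  have h1 : (χ : G → ℂ) 1 = ((3 : ℕ) : ℂ) := by rw [h.deg_setA hχ]; norm_num
  obtain ⟨ρ, -, hρ⟩ := exists_rep h1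
  obtain ⟨μ, hroot, hpow, hdet⟩ := exists_eigen ρ u
  rw [det_one h.perfect ρ u, Fin.prod_univ_three] at hdet
  have hsum : μ 0 + μ 1 + μ 2 = -1 := by
    have := hpow 1
    simp only [pow_one] at this
    rw [hρ, mem_setA.1 hχ, Fin.sum_univ_three] at this
    exact this.symm
  have hn : ∀ i, μ i * (starRingEnd ℂ) (μ i) = 1 := fun i => by
    rw [Complex.mul_conj, Complex.normSq_eq_norm_sq,
      Complex.norm_eq_one_of_pow_eq_one (hroot i) (orderOf_pos u).ne']
    norm_num
  have hc : (starRingEnd ℂ) (μ 0) + (starRingEnd ℂ) (μ 1) + (starRingEnd ℂ) (μ 2) = -1 := by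
    rw [← map_add, ← map_add, hsum, map_neg, map_one]
  rw [← hρ, hpow 2, Fin.sum_univ_three]
  linear_combination (μ 0 + μ 1 + μ 2 - 1) * hsum - 2 * hc
    + 2 * ((starRingEnd ℂ) (μ 0) + (starRingEnd ℂ) (μ 1) + (starRingEnd ℂ) (μ 2)) * hdet
    + 2 * μ 1 * μ 2 * hn 0 + 2 * μ 0 * μ 2 * hn 1 + 2 * μ 0 * μ 1 * hn 2

/-! ### Coordinates adapted to a four group -/

/-- Signs of the three involutions. -/
def sgn (i j : Fin 3) : ℂ := if i = j then 1 else -1

theorem sgn_self (i : Fin 3) : sgn i i = 1 := if_pos rfl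

theorem sgn_ne {i j : Fin 3} (h : i ≠ j) : sgn i j = -1 := if_neg h

/-- Coordinates of a faithful degree three character diagonalising `T 0, T 1, T 2`. -/
structure Model (T : Fin 3 → G) (χ : G → ℂ) where
  Φ : G →* Matrix (Fin 3) (Fin 3) ℂ
  trace : ∀ g, (Φ g).trace = χ g
  det : ∀ g, (Φ g).det = 1
  inj : Function.Injective Φ
  diag : ∀ i, Φ (T i) = Matrix.diagonal (sgn i)

theorem toMatrix_eq_diagonal {V : Type*} [AddCommGroup V] [Module ℂ V] {ι : Type*} [Fintype ι]
    [DecidableEq ι] (b : Basis ι ℂ V) (f : V →ₗ[ℂ] V) (d : ι → ℂ) (h : ∀ j, f (b j) = d j • b j) :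
    LinearMap.toMatrix b b f = Matrix.diagonal d := by
  ext i j
  rw [LinearMap.toMatrix_apply, h j, map_smul, b.repr_self, Finsupp.smul_single, smul_eq_mul,
    mul_one, Matrix.diagonal_apply, Finsupp.single_apply]
  by_cases hij : i = j
  · subst hij; simp
  · rw [if_neg hij, if_neg (fun e => hij e.symm)]

/-- A common eigenvector with prescribed signs. -/
theorem exists_common_eigen {n : ℕ} (ρ : Representation ℂ G (Fin n → ℂ)) {u t : G}
    (hu : u * u = 1) (ht : t * t = 1) (hc : u * t = t * u) {ε δ : ℂ} (hε : ε * ε = 1)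
    (hδ : δ * δ = 1)
    (hne : (n : ℂ) + ε * ρ.character u + δ * ρ.character t + ε * δ * ρ.character (u * t) ≠ 0) :
    ∃ v : Fin n → ℂ, v ≠ 0 ∧ ρ u v = ε • v ∧ ρ t v = δ • v := by
  set A := ρ u with hA
  set B := ρ t with hB
  have hA2 : A * A = 1 := by rw [hA, ← map_mul, hu, map_one]
  have hB2 : B * B = 1 := by rw [hB, ← map_mul, ht, map_one]
  have hAB : A * B = B * A := by rw [hA, hB, ← map_mul, ← map_mul, hc]
  set P : Module.End ℂ (Fin n → ℂ) := 1 + ε • A + δ • B + (ε * δ) • (A * B) with hP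
  have htr : LinearMap.trace ℂ _ P =
      (n : ℂ) + ε * ρ.character u + δ * ρ.character t + ε * δ * ρ.character (u * t) := by
    simp only [hP, map_add, map_smul, smul_eq_mul, LinearMap.trace_one, Module.finrank_fin_fun,
      Representation.character, hA, hB, map_mul]
  obtain ⟨w, hw⟩ : ∃ w, P w ≠ 0 := by
    by_contra hno
    push Not at hno
    apply hne
    rw [← htr, show P = 0 from LinearMap.ext hno, map_zero]
  have hAP : A * P = ε • P := by
    simp only [hP, mul_add, smul_add, mul_one, mul_smul_comm, ← mul_assoc, hA2, one_mul, smul_smul,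
      hε, one_smul]
    module
  have hBP : B * P = δ • P := by
    have hBAB : B * A * B = A := by rw [← hAB, mul_assoc, hB2, mul_one]
    simp only [hP, mul_add, smul_add, mul_one, mul_smul_comm, ← mul_assoc, hB2, ← hAB, smul_smul,
      hδ, one_smul]
    rw [show A * B * B = A by rw [mul_assoc, hB2, mul_one]]
    match_scalars <;> first | ring1 | linear_combination ε * hδ | linear_combination -(ε * hδ)
  refine ⟨P w, hw, ?_, ?_⟩
  · exact (LinearMap.congr_fun hAP w).trans (LinearMap.smul_apply ε P w)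
  · exact (LinearMap.congr_fun hBP w).trans (LinearMap.smul_apply δ P w)

theorem exists_model (hp : commutator G = ⊤) {χ : IrrCharacter G} (h1 : (χ : G → ℂ) 1 = 3)
    (hfaith : ∀ g, (χ : G → ℂ) g = 3 → g = 1) {u t : G} (hu : u * u = 1) (ht : t * t = 1)
    (hc : u * t = t * u) (hχu : (χ : G → ℂ) u = -1) (hχt : (χ : G → ℂ) t = -1)
    (hχut : (χ : G → ℂ) (u * t) = -1) :
    Nonempty (Model ![u, t, u * t] (χ : G → ℂ)) := by
  have h3 : (χ : G → ℂ) 1 = ((3 : ℕ) : ℂ) := by rw [h1]; norm_num
  obtain ⟨ρ, -, hρ⟩ := exists_rep h3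
  obtain ⟨v0, hv0, hu0, ht0⟩ := exists_common_eigen ρ hu ht hc (ε := 1) (δ := -1) (by ring) (by ring)
    (by rw [hρ, hχu, hχt, hχut]; norm_num)
  obtain ⟨v1, hv1, hu1, ht1⟩ := exists_common_eigen ρ hu ht hc (ε := -1) (δ := 1) (by ring) (by ring)
    (by rw [hρ, hχu, hχt, hχut]; norm_num)
  obtain ⟨v2, hv2, hu2, ht2⟩ := exists_common_eigen ρ hu ht hc (ε := -1) (δ := -1) (by ring) (by ring)
    (by rw [hρ, hχu, hχt, hχut]; norm_num)
  have hli : LinearIndependent ℂ ![v0, v1, v2] := by
    rw [Fintype.linearIndependent_iff]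
    intro c hc0
    simp only [Fin.sum_univ_three, Matrix.cons_val_zero, Matrix.cons_val_one, Matrix.cons_val] at hc0
    have hA := congrArg (ρ u) hc0
    have hB := congrArg (ρ t) hc0
    simp only [map_add, map_smul, map_zero, hu0, hu1, hu2, ht0, ht1, ht2, one_smul, neg_smul,
      smul_neg] at hA hB
    have e0 : (2 * c 0) • v0 = 0 := by
      linear_combination (norm := module) hc0 + hA
    have e1 : (2 * c 1) • v1 = 0 := by
      linear_combination (norm := module) hc0 + hB
    have z0 : c 0 = 0 := by simpa [hv0] using e0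
    have z1 : c 1 = 0 := by simpa [hv1] using e1
    have z2 : c 2 = 0 := by simpa [z0, z1, hv2] using hc0
    intro i
    fin_cases i <;> assumption
  let b : Basis (Fin 3) ℂ (Fin 3 → ℂ) :=
    basisOfLinearIndependentOfCardEqFinrank hli (by simp)
  have hb : ∀ i, b i = ![v0, v1, v2] i := fun i => by simp [b]
  let Φ : G →* Matrix (Fin 3) (Fin 3) ℂ :=
    ((LinearMap.toMatrixAlgEquiv b).toAlgHom.toRingHom.toMonoidHom).comp ρ
  have hΦ : ∀ g, Φ g = LinearMap.toMatrix b b (ρ g) := fun g => rfl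
  have htr : ∀ g, (Φ g).trace = (χ : G → ℂ) g := fun g => by
    rw [hΦ, ← LinearMap.trace_eq_matrix_trace, ← hρ]; rfl
  refine ⟨{ Φ := Φ, trace := htr, det := fun g => ?_, inj := ?_, diag := ?_ }⟩
  · rw [hΦ, LinearMap.det_toMatrix, det_one hp ρ g]
  · intro a a' h
    refine inv_mul_eq_one.1 (hfaith (a⁻¹ * a') ?_)
    rw [← htr, map_mul, ← h, ← map_mul, inv_mul_cancel, map_one]
    simp
  · intro i
    have hu' : Φ u = Matrix.diagonal (sgn 0) := by
      rw [hΦ]
      refine toMatrix_eq_diagonal b _ _ fun j => ?_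
      fin_cases j <;> simp [hb, hu0, hu1, hu2, sgn]
    have ht' : Φ t = Matrix.diagonal (sgn 1) := by
      rw [hΦ]
      refine toMatrix_eq_diagonal b _ _ fun j => ?_
      fin_cases j <;> simp [hb, ht0, ht1, ht2, sgn]
    fin_cases i
    · exact hu'
    · exact ht'
    · show Φ (u * t) = Matrix.diagonal (sgn 2)
      rw [map_mul, hu', ht', Matrix.diagonal_mul_diagonal]
      congr 1
      funext j
      fin_cases j <;> simp [sgn]

variable {T : Fin 3 → G} {χ : G → ℂ}

theorem Model.apply_T (M : Model T χ) (g : G) (i a b : Fin 3) (hc : g * T i = T i * g) :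
    M.Φ g a b * sgn i b = sgn i a * M.Φ g a b := by
  have := congrFun (congrFun (congrArg M.Φ hc) a) b
  simpa [map_mul, M.diag, Matrix.mul_diagonal, Matrix.diagonal_mul] using this

theorem Model.off_block (M : Model T χ) {g : G} {i : Fin 3} (hc : g * T i = T i * g) {a b : Fin 3}
    (hab : sgn i a ≠ sgn i b) : M.Φ g a b = 0 := by
  have h := M.apply_T g i a b hc
  by_contra h0
  exact hab (mul_left_cancel₀ h0 (h.trans (mul_comm _ _))).symm

/-- An element commuting with the three involutions is diagonal. -/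
theorem Model.diag_of_commute (M : Model T χ) {g : G} (hc : ∀ i, g * T i = T i * g) :
    M.Φ g = Matrix.diagonal (fun i => M.Φ g i i) := by
  ext a b
  by_cases hab : a = b
  · subst hab; simp
  · rw [Matrix.diagonal_apply_ne _ hab]
    exact M.off_block (hc a) (by rw [sgn_self, sgn_ne hab]; norm_num)

/-- Conjugation permuting the involutions permutes the diagonal. -/
theorem Model.perm (M : Model T χ) {σ g g' : G} {i j : Fin 3} (hσ : σ * T i = T j * σ)
    (hg : ∀ k, g * T k = T k * g) (hg' : ∀ k, g' * T k = T k * g') (he : g * σ = σ * g') :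
    M.Φ g j j = M.Φ g' i i := by
  have hcol : ∀ k, k ≠ j → M.Φ σ k i = 0 := by
    intro k hk
    have := congrFun (congrFun (congrArg M.Φ hσ) k) i
    simp [map_mul, M.diag, Matrix.mul_diagonal, Matrix.diagonal_mul, sgn_self,
      sgn_ne (Ne.symm hk)] at this
    linear_combination (1 / 2 : ℂ) * this
  have hne : M.Φ σ j i ≠ 0 := by
    intro h0
    have h1 := congrFun (congrFun (congrArg M.Φ (inv_mul_cancel σ)) i) i
    rw [map_mul, map_one, Matrix.mul_apply, Finset.sum_eq_zero fun k _ => ?_, Matrix.one_apply_eq] at h1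
    · exact zero_ne_one h1
    · by_cases hk : k = j
      · subst hk; rw [h0, mul_zero]
      · rw [hcol k hk, mul_zero]
  have := congrFun (congrFun (congrArg M.Φ he) j) i
  rw [map_mul, map_mul, M.diag_of_commute hg, M.diag_of_commute hg', Matrix.diagonal_mul,
    Matrix.mul_diagonal] at this
  rw [M.diag_of_commute hg, M.diag_of_commute hg'] 
  simp only [Matrix.diagonal_apply_eq]
  exact mul_right_cancel₀ hne (this.trans (mul_comm _ _))

end Cfsg.Agent.FourConst
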