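/-
The simple case: all involutions are conjugate to `u`, the Sylow 2-subgroups have order four, and
the odd part of the centralizer of `u`.

* `Hyp.sq_one`, `Hyp.isConj_involution`, `Hyp.card_sylow`, `Hyp.exists_t`, `npair_involution`
* `four`, `exists_odd_part`, `exists_normalizing`
-/
import Cfsg.Agent.Lib.FourConst.Linear
import Mathlib.GroupTheory.Transfer

set_option autoImplicit false
set_option linter.style.haveILetI false

namespace Cfsg.Agent.FourConst

open Cfsg Cfsg.Agent
open scoped ComplexConjugate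

variable {G : Type*} [Group G] [Finite G] {u : G}

section simple

variable [IsSimpleGroup G]

theorem center_eq_bot (h : Hyp u) : Subgroup.center G = ⊥ := by
  refine (IsSimpleGroup.eq_bot_or_eq_top_of_normal (Subgroup.center G) inferInstance).resolve_right
    fun e => ?_
  have hc : commutator G = ⊥ := (commutator_eq_bot_iff_center_eq_top G).2 e
  exact bot_ne_top (hc.symm.trans h.perfect)

theorem faithful {χ : IrrCharacter G} (hχ : χ ≠ prin G) {g : G}
    (hg : (χ : G → ℂ) g = (χ : G → ℂ) 1) : g = 1 := by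
  have hg' : g ∈ Codegree.kerSub χ := hg
  rcases IsSimpleGroup.eq_bot_or_eq_top_of_normal (Codegree.kerSub χ) inferInstance with e | e
  · rw [e] at hg'; exact hg'
  · exfalso
    have := Fintype.ofFinite G
    have hz := Char.classInner_irr_of_ne χ.2 (prin G).2 (ne_const hχ)
    have hc : ∀ x, (χ : G → ℂ) x = (χ : G → ℂ) 1 := fun x => by
      have hx : x ∈ Codegree.kerSub χ := e ▸ Subgroup.mem_top x
      exact hx
    simp [classInner, prin_apply, hc, Char.IsIrrCharacter.apply_one_ne_zero χ.2,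
      Nat.card_eq_fintype_card] at hz

theorem eq_one_of_value3 (h : Hyp u) {χ : IrrCharacter G} (hχ : χ ∈ setA u) {g : G}
    (hg : (χ : G → ℂ) g = 3) : g = 1 :=
  faithful (ne_prin_setA hχ) (hg.trans (h.deg_setA hχ).symm)

theorem Hyp.sq_one (h : Hyp u) : u * u = 1 := by
  obtain ⟨χ, hχ⟩ := h.setA_nonempty
  rw [← pow_two]
  exact eq_one_of_value3 h hχ (h.value_sq hχ)

theorem value_deg3 (h : Hyp u) {χ : IrrCharacter G} (hχ : χ ∈ setA u) {z : G} (hz : z * z = 1)
    (hz1 : z ≠ 1) : (χ : G → ℂ) z = -1 := by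
  obtain ⟨k, hk, hev, hv⟩ := involution_value h.perfect (χ := χ) (n := 3)
    (by rw [h.deg_setA hχ]; norm_num) hz
  obtain ⟨l, rfl⟩ := hev
  obtain rfl | rfl : l = 0 ∨ l = 1 := by omega
  · exact absurd (eq_one_of_value3 h hχ (by rw [hv]; norm_num)) hz1
  · rw [hv]; norm_num

theorem value_deg5 (h : Hyp u) {χ : IrrCharacter G} (hχ : χ ∈ setB u) {z : G} (hz : z * z = 1)
    (hz1 : z ≠ 1) : (χ : G → ℂ) z = 1 ∨ (χ : G → ℂ) z = -3 := by
  obtain ⟨k, hk, hev, hv⟩ := involution_value h.perfect (χ := χ) (n := 5)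
    (by rw [h.deg_setB hχ]; norm_num) hz
  obtain ⟨l, rfl⟩ := hev
  obtain rfl | rfl | rfl : l = 0 ∨ l = 1 ∨ l = 2 := by omega
  · exact absurd (faithful (mem_setB.1 hχ).2 (by rw [hv, h.deg_setB hχ]; norm_num)) hz1
  · left; rw [hv]; norm_num
  · right; rw [hv]; norm_num

theorem value_deg6 (h : Hyp u) {χ : IrrCharacter G} (hχ : χ ∈ setC u) {z : G} (hz : z * z = 1)
    (hz1 : z ≠ 1) : (χ : G → ℂ) z = 2 ∨ (χ : G → ℂ) z = -2 := by
  obtain ⟨k, hk, hev, hv⟩ := involution_value h.perfect (χ := χ) (n := 6)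
    (by rw [h.deg_setC hχ]; norm_num) hz
  obtain ⟨l, rfl⟩ := hev
  obtain rfl | rfl | rfl | rfl : l = 0 ∨ l = 1 ∨ l = 2 ∨ l = 3 := by omega
  · exact absurd (faithful (ne_prin_setC hχ) (by rw [hv, h.deg_setC hχ]; norm_num)) hz1
  · left; rw [hv]; norm_num
  · right; rw [hv]; norm_num
  · exfalso
    -- the value `-6` makes `z` a scalar, hence central
    apply hz1
    have h6 : (χ : G → ℂ) 1 = ((6 : ℕ) : ℂ) := by rw [h.deg_setC hχ]; norm_num
    obtain ⟨ρ, -, hρ⟩ := exists_rep h6
    obtain ⟨ω, hω⟩ := (Char.norm_character_eq_iff ρ z).1 (by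
      rw [hρ, hv, Module.finrank_fin_fun]; norm_num)
    have hz' : z ∈ Subgroup.center G := by
      rw [Subgroup.mem_center_iff]
      intro y
      refine inv_mul_eq_one.1 (faithful (ne_prin_setC hχ) ?_)
      rw [← hρ]
      have e : ρ ((y * z)⁻¹ * (z * y)) = ρ 1 := by
        have e1 : ρ (z * y) = ρ (y * z) := by
          rw [map_mul, map_mul, hω]
          ext v
          simp
        rw [map_mul, e1, ← map_mul, inv_mul_cancel]
      simp only [Representation.character, e]
    rwa [center_eq_bot h, Subgroup.mem_bot] at hz'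

/-- Every involution is conjugate to `u`. -/
theorem Hyp.isConj_involution (h : Hyp u) {z : G} (hz : z * z = 1) (hz1 : z ≠ 1) : IsConj u z := by
  classical
  by_contra hn
  have horth := h.orth hn
  have hN := h.npair_eq z
  obtain ⟨β, hβ⟩ := Finset.card_eq_one.1 h.card_setB
  have hA : valSum (setA u) z = -((setA u).card : ℂ) := by
    rw [valSum, Finset.sum_congr rfl fun χ hχ => by rw [value_deg3 h hχ hz hz1]]
    simp
  set k := ((setC u).filter fun χ : IrrCharacter G => (χ : G → ℂ) z = -2).card with hk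
  have hC : valSum (setC u) z = 2 * ((setC u).card : ℂ) - 4 * (k : ℂ) := by
    have hpt : ∀ χ ∈ setC u, conj ((χ : G → ℂ) z) =
        2 - 4 * (if (χ : G → ℂ) z = -2 then 1 else 0 : ℂ) := by
      intro χ hχ
      rcases value_deg6 h hχ hz hz1 with e | e <;> rw [e] <;> norm_num [map_ofNat, map_neg]
    rw [valSum, Finset.sum_congr rfl hpt, Finset.sum_sub_distrib, ← Finset.mul_sum, Finset.sum_boole]
    simp [k]
    ring
  have hB : valSum (setB u) z = conj ((β : G → ℂ) z) := by rw [valSum, hβ, Finset.sum_singleton]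
  have hβ' : β ∈ setB u := by rw [hβ]; exact Finset.mem_singleton_self _
  rw [hA, hC, hB] at horth hN
  rw [h.card_setA] at horth hN
  rcases value_deg5 h hβ' hz hz1 with e | e
  · rw [e, map_one] at horth
    push_cast at horth
    have h' : ((8 * (setC u).card + 4 : ℕ) : ℂ) = ((8 * k : ℕ) : ℂ) := by
      push_cast; linear_combination horth
    have : 8 * (setC u).card + 4 = 8 * k := by exact_mod_cast h'
    omega
  · rw [e, map_neg, map_ofNat] at horth hN
    push_cast at horth hN
    have hk' : (k : ℂ) = (setC u).card := by linear_combination (-1 / 8 : ℂ) * horth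
    rw [hk'] at hN
    have hG : (Nat.card G : ℂ) ≠ 0 := Nat.cast_ne_zero.2 Nat.card_pos.ne'
    have h1 : ((15 * Nat.card G * npair u z + csize u ^ 2 * (4 + 40 * (setC u).card) : ℕ) : ℂ) =
        ((0 : ℕ) : ℂ) := by
      push_cast
      rw [hN]
      field_simp
      ring
    have h2 : 15 * Nat.card G * npair u z + csize u ^ 2 * (4 + 40 * (setC u).card) = 0 := by
      exact_mod_cast h1
    have := csize_pos u
    have : 0 < csize u ^ 2 * (4 + 40 * (setC u).card) := Nat.mul_pos (by positivity) (by omega)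
    omega

theorem Hyp.isConj_iff_involution (h : Hyp u) {z : G} : IsConj u z ↔ z * z = 1 ∧ z ≠ 1 := by
  refine ⟨fun hc => ?_, fun hc => h.isConj_involution hc.1 hc.2⟩
  obtain ⟨c, rfl⟩ := isConj_iff.1 hc
  refine ⟨?_, fun e => h.ne (by simpa using e)⟩
  calc c * u * c⁻¹ * (c * u * c⁻¹) = c * (u * u) * c⁻¹ := by group
    _ = 1 := by rw [h.sq_one]; group

omit [IsSimpleGroup G] in
theorem card_centralizer_conj {a b : G} (h : IsConj a b) :
    Nat.card (Subgroup.centralizer ({a} : Set G)) = Nat.card (Subgroup.centralizer ({b} : Set G)) := by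
  have e : csize a = csize b :=
    Nat.card_congr (Equiv.subtypeEquivRight fun x => ⟨fun k => h.symm.trans k, fun k => h.trans k⟩)
  have h1 := csize_mul a
  rw [e, ← csize_mul b] at h1
  exact Nat.eq_of_mul_eq_mul_left (csize_pos b) h1

theorem Hyp.card_sylow (h : Hyp u) (S : Sylow 2 G) : Nat.card (S : Subgroup G) = 4 := by
  have : Fact (Nat.Prime 2) := ⟨Nat.prime_two⟩
  have hC := h.card_centralizer
  have h4 : 4 ∣ Nat.card G := by
    refine dvd_trans ⟨1 + 2 * (setC u).card, ?_⟩ (Subgroup.card_subgroup_dvd_card (Subgroup.centralizer ({u} : Set G)))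
    rw [hC]; ring
  have hS4 : 4 ∣ Nat.card (S : Subgroup G) := by
    rw [S.card_eq_multiplicity]
    exact (Nat.pow_dvd_pow 2 ((Nat.Prime.pow_dvd_iff_le_factorization Nat.prime_two
      Nat.card_pos.ne').1 (by norm_num; exact h4 : 2 ^ 2 ∣ Nat.card G)))
  have hne : Nontrivial (S : Subgroup G) := by
    rw [← Finite.one_lt_card_iff_nontrivial]
    exact lt_of_lt_of_le (by norm_num) (Nat.le_of_dvd Nat.card_pos hS4)
  have hnz := IsPGroup.center_nontrivial S.2
  have hdvd : 2 ∣ Nat.card (Subgroup.center (S : Subgroup G)) := by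
    obtain ⟨n, hn, he⟩ := (IsPGroup.nontrivial_iff_card (S.2.to_subgroup _)).1 hnz
    rw [he]; exact dvd_pow_self 2 hn.ne'
  obtain ⟨z, hz⟩ := exists_prime_orderOf_dvd_card' 2 hdvd
  have hzz : ((z : (S : Subgroup G)) : G) * ((z : (S : Subgroup G)) : G) = 1 := by
    have := pow_orderOf_eq_one z
    rw [hz, pow_two] at this
    exact congrArg (fun x : Subgroup.center (S : Subgroup G) => ((x : (S : Subgroup G)) : G)) this
  have hz1 : ((z : (S : Subgroup G)) : G) ≠ 1 := by
    intro e
    have : z = 1 := Subtype.ext (Subtype.ext e)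
    rw [this, orderOf_one] at hz; norm_num at hz
  have hle : (S : Subgroup G) ≤ Subgroup.centralizer ({((z : (S : Subgroup G)) : G)} : Set G) := by
    intro s hs
    rw [Subgroup.mem_centralizer_singleton_iff]
    exact congrArg Subtype.val (Subgroup.mem_center_iff.1 z.2 ⟨s, hs⟩)
  have hd := Subgroup.card_dvd_of_le hle
  rw [← card_centralizer_conj (h.isConj_involution hzz hz1), hC,
    show 4 + 8 * (setC u).card = 4 * (1 + 2 * (setC u).card) by ring] at hd
  have hco : (Nat.card (S : Subgroup G)).Coprime (1 + 2 * (setC u).card) := by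
    obtain ⟨n, hn⟩ := S.2.exists_card_eq
    rw [hn]
    exact Nat.Coprime.pow_left n (Nat.coprime_two_left.2 ⟨(setC u).card, by ring⟩)
  exact Nat.dvd_antisymm (hco.dvd_of_dvd_mul_right hd) hS4

/-- Pairs of conjugates of `u` with product `g`, as single involutions. -/
theorem npair_involution (h : Hyp u) (g : G) :
    npair u g = Nat.card {v : G // (v * v = 1 ∧ v ≠ 1) ∧ (v * g * (v * g) = 1 ∧ v * g ≠ 1)} := by
  refine Nat.card_congr
    { toFun := fun p => ⟨p.1.1, h.isConj_iff_involution.1 p.2.1, ?_⟩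
      invFun := fun v => ⟨(v.1, v.1 * g), h.isConj_iff_involution.2 v.2.1,
        h.isConj_iff_involution.2 v.2.2, by rw [← mul_assoc, v.2.1.1, one_mul]⟩
      left_inv := ?_
      right_inv := fun v => rfl }
  · have e : p.1.1 * g = p.1.2 := by
      calc p.1.1 * g = p.1.1 * (p.1.1 * p.1.2) := by rw [p.2.2.2]
        _ = p.1.2 := by rw [← mul_assoc, (h.isConj_iff_involution.1 p.2.1).1, one_mul]
    rw [e]
    exact h.isConj_iff_involution.1 p.2.2.1
  · intro p
    refine Subtype.ext (Prod.ext rfl ?_)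
    show p.1.1 * g = p.1.2
    calc p.1.1 * g = p.1.1 * (p.1.1 * p.1.2) := by rw [p.2.2.2]
      _ = p.1.2 := by rw [← mul_assoc, (h.isConj_iff_involution.1 p.2.1).1, one_mul]

/-- A second involution centralizing `u`. -/
theorem Hyp.exists_t (h : Hyp u) :
    ∃ t : G, t * t = 1 ∧ t ≠ 1 ∧ t ≠ u ∧ u * t = t * u := by
  have hn : 0 < npair u u := by
    by_contra h0
    have := h.npair_self
    rw [show npair u u = 0 by omega] at this
    have hc := csize_pos u
    have : 0 < 8 * csize u ^ 2 := by positivity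
    omega
  rw [npair_involution h u] at hn
  obtain ⟨⟨v, ⟨hv, hv1⟩, hvu, hvu1⟩⟩ := (Nat.card_pos_iff.1 hn).1
  refine ⟨v, hv, hv1, fun e => hvu1 (by rw [e]; exact h.sq_one), ?_⟩
  calc u * v = v * (v * u * (v * u)) * u := by
        rw [show v * (v * u * (v * u)) * u = (v * v) * u * v * (u * u) by group, hv, h.sq_one]; group
    _ = v * u := by rw [hvu, mul_one]

end simple

/-- The four group. -/
def four {t : G} (hu : u * u = 1) (ht : t * t = 1) (hc : u * t = t * u) : Subgroup G where
  carrier := {x | x = 1 ∨ x = u ∨ x = t ∨ x = u * t}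
  one_mem' := Or.inl rfl
  mul_mem' := fun {a b} ha hb => by
    have h1 : t * u = u * t := hc.symm
    have h2 : u * (u * t) = t := by rw [← mul_assoc, hu, one_mul]
    have h3 : u * t * u = t := by rw [hc, mul_assoc, hu, mul_one]
    have h4 : t * (u * t) = u := by rw [hc, ← mul_assoc, ht, one_mul]
    have h5 : u * t * t = u := by rw [mul_assoc, ht, mul_one]
    have h6 : u * t * (u * t) = 1 := by rw [mul_assoc, h4, hu]
    rcases ha with rfl | rfl | rfl | rfl <;> rcases hb with rfl | rfl | rfl | rfl <;>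
      simp [hu, ht, h1, h2, h3, h4, h5, h6]
  inv_mem' := fun {a} ha => by
    have h6 : (u * t)⁻¹ = u * t := by
      refine inv_eq_of_mul_eq_one_right ?_
      rw [mul_assoc, hc, ← mul_assoc t, ht, one_mul, hu]
    have hu' : u⁻¹ = u := inv_eq_of_mul_eq_one_right hu
    have ht' : t⁻¹ = t := inv_eq_of_mul_eq_one_right ht
    rcases ha with rfl | rfl | rfl | rfl
    · exact Or.inl inv_one
    · exact Or.inr (Or.inl hu')
    · exact Or.inr (Or.inr (Or.inl ht'))
    · exact Or.inr (Or.inr (Or.inr h6))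

/-- Data: two commuting involutions generating a Sylow 2-subgroup. -/
structure Pair (u t : G) : Prop where
  hu : u * u = 1
  ht : t * t = 1
  hc : u * t = t * u
  u1 : u ≠ 1
  t1 : t ≠ 1
  tu : t ≠ u
  syl : ∀ S : Sylow 2 G, Nat.card (S : Subgroup G) = 4

/-- The three involutions. -/
def inv3 (u t : G) : Fin 3 → G := ![u, t, u * t]

variable {t : G}

theorem Pair.mem_four (P : Pair u t) {x : G} :
    x ∈ four P.hu P.ht P.hc ↔ x = 1 ∨ ∃ i, x = inv3 u t i := by
  constructor
  · rintro (rfl | rfl | rfl | rfl)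
    · exact Or.inl rfl
    · exact Or.inr ⟨0, rfl⟩
    · exact Or.inr ⟨1, rfl⟩
    · exact Or.inr ⟨2, rfl⟩
  · rintro (rfl | ⟨i, rfl⟩)
    · exact Or.inl rfl
    · fin_cases i
      · exact Or.inr (Or.inl rfl)
      · exact Or.inr (Or.inr (Or.inl rfl))
      · exact Or.inr (Or.inr (Or.inr rfl))

theorem Pair.inv3_sq (P : Pair u t) (i : Fin 3) : inv3 u t i * inv3 u t i = 1 := by
  fin_cases i
  · exact P.hu
  · exact P.ht
  · show u * t * (u * t) = 1
    rw [mul_assoc, P.hc, ← mul_assoc t, P.ht, one_mul, P.hu]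

theorem Pair.inv3_ne (P : Pair u t) (i : Fin 3) : inv3 u t i ≠ 1 := by
  fin_cases i
  · exact P.u1
  · exact P.t1
  · intro e
    have e' : u * t = 1 := e
    apply P.tu
    calc t = u * (u * t) := by rw [← mul_assoc, P.hu, one_mul]
      _ = u := by rw [e', mul_one]

theorem Pair.inv3_comm (P : Pair u t) (i j : Fin 3) :
    inv3 u t i * inv3 u t j = inv3 u t j * inv3 u t i := by
  have h1 : t * (u * t) = u * t * t := by rw [← mul_assoc, ← P.hc]
  have h2 : u * (u * t) = u * t * u := by rw [← mul_assoc, P.hu, one_mul, P.hc, mul_assoc, P.hu, mul_one]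
  fin_cases i <;> fin_cases j <;> first | rfl | exact P.hc | exact P.hc.symm | exact h1 | exact h1.symm | exact h2 | exact h2.symm

theorem Pair.inv3_injective (P : Pair u t) : Function.Injective (inv3 u t) := by
  have h1 : u * t ≠ u := fun e => P.t1 (mul_eq_left.1 e)
  have h2 : u * t ≠ t := fun e => P.u1 (mul_eq_right.1 e)
  intro i j e
  fin_cases i <;> fin_cases j <;>
    first
    | rfl
    | exact absurd e P.tu
    | exact absurd e.symm P.tu
    | exact absurd e h1
    | exact absurd e.symm h1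
    | exact absurd e h2
    | exact absurd e.symm h2

theorem Pair.card_four (P : Pair u t) : Nat.card (four P.hu P.ht P.hc) = 4 := by
  classical
  let f : Option (Fin 3) → four P.hu P.ht P.hc := fun o =>
    o.elim 1 fun i => ⟨inv3 u t i, P.mem_four.2 (Or.inr ⟨i, rfl⟩)⟩
  have hb : Function.Bijective f := by
    refine ⟨?_, ?_⟩
    · rintro (_ | i) (_ | j) e
      · rfl
      · exact absurd (congrArg Subtype.val e).symm (P.inv3_ne j)
      · exact absurd (congrArg Subtype.val e) (P.inv3_ne i)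
      · exact congrArg some (P.inv3_injective (congrArg Subtype.val e))
    · rintro ⟨x, hx⟩
      rcases P.mem_four.1 hx with rfl | ⟨i, rfl⟩
      · exact ⟨none, rfl⟩
      · exact ⟨some i, rfl⟩
  rw [← Nat.card_congr (Equiv.ofBijective f hb)]
  simp

/-- The four group as a Sylow subgroup. -/
theorem Pair.exists_sylow (P : Pair u t) : ∃ S : Sylow 2 G, (S : Subgroup G) = four P.hu P.ht P.hc := by
  have : Fact (Nat.Prime 2) := ⟨Nat.prime_two⟩
  obtain ⟨S⟩ : Nonempty (Sylow 2 G) := inferInstance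
  refine ⟨Sylow.ofCard (four P.hu P.ht P.hc) ?_, rfl⟩
  rw [P.card_four, ← P.syl S, S.card_eq_multiplicity]

/-- An element commuting with `u` and normalizing the four group centralizes it. -/
theorem Pair.comm_of_normalizes (P : Pair u t) {n : G} (hn : n * u = u * n)
    (hnt : n * t * n⁻¹ = t ∨ n * t * n⁻¹ = u * t) : n * t = t * n := by
  have : Fact (Nat.Prime 2) := ⟨Nat.prime_two⟩
  rcases hnt with h | h
  · exact mul_inv_eq_iff_eq_mul.1 h
  exfalso
  have huc : n * u * n⁻¹ = u := by rw [hn, mul_inv_cancel_right]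
  have hsw : n * (u * t) * n⁻¹ = t := by
    rw [show n * (u * t) * n⁻¹ = n * u * n⁻¹ * (n * t * n⁻¹) by group, huc, h, ← mul_assoc, P.hu, one_mul]
  have hpow : ∀ k : ℕ, n ^ k * u * (n ^ k)⁻¹ = u ∧
      (Odd k → n ^ k * t * (n ^ k)⁻¹ = u * t) ∧ (Even k → n ^ k * t * (n ^ k)⁻¹ = t) := by
    intro k
    induction k with
    | zero => simp
    | succ k ih =>
      obtain ⟨iu, io, ie⟩ := ih
      have e : ∀ x, n ^ (k + 1) * x * (n ^ (k + 1))⁻¹ = n * (n ^ k * x * (n ^ k)⁻¹) * n⁻¹ := by
        intro x; rw [pow_succ']; group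
      refine ⟨by rw [e, iu, huc], fun hk => ?_, fun hk => ?_⟩
      · rw [e, ie (by simpa [parity_simps] using hk), h]
      · rw [e, io (by simpa [parity_simps] using hk), hsw]
  obtain ⟨a, r, hr, hk⟩ := Nat.exists_eq_pow_mul_and_not_dvd (orderOf_pos n).ne' 2 (by norm_num)
  have hodd : Odd r := Nat.odd_iff.2 (by omega)
  obtain ⟨S, hS⟩ := P.exists_sylow
  set y := n ^ r with hy
  have hy2 : IsPGroup 2 (Subgroup.zpowers y) := by
    refine IsPGroup.of_card (n := a) ?_
    rw [Nat.card_zpowers, hy, orderOf_pow' n (by omega), hk, Nat.gcd_mul_left_left,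
      Nat.mul_div_cancel _ (by omega)]
  obtain ⟨yu, yo, -⟩ := hpow r
  have hyn : y ∈ Subgroup.normalizer ((S : Subgroup G) : Set G) := by
    rw [Subgroup.mem_normalizer_iff_map_conj_eq, hS]
    refine Subgroup.eq_of_le_of_card_ge ?_ (le_of_eq (Subgroup.card_map_of_injective
      (MulAut.conj y).injective).symm)
    rintro _ ⟨x, hx, rfl⟩
    rw [MonoidHom.coe_coe, MulAut.conj_apply]
    rcases hx with rfl | rfl | rfl | rfl
    · exact Or.inl (by group)
    · exact Or.inr (Or.inl yu)
    · exact Or.inr (Or.inr (Or.inr (yo hodd)))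
    · refine Or.inr (Or.inr (Or.inl ?_))
      rw [show y * (u * t) * y⁻¹ = y * u * y⁻¹ * (y * t * y⁻¹) by group, yu, yo hodd, ← mul_assoc,
        P.hu, one_mul]
  have hyS : y ∈ (S : Subgroup G) := by
    have := IsPGroup.inf_normalizer_sylow hy2 S
    have h' : y ∈ Subgroup.zpowers y ⊓ Subgroup.normalizer ((S : Subgroup G) : Set G) :=
      ⟨Subgroup.mem_zpowers y, hyn⟩
    exact (this.le h').2
  rw [hS, P.mem_four] at hyS
  have hyt : y * t * y⁻¹ = t := by
    rcases hyS with e | ⟨i, e⟩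
    · rw [e]; group
    · rw [e, mul_inv_eq_iff_eq_mul]
      exact P.inv3_comm i 1
  rw [yo hodd] at hyt
  exact P.u1 (mul_eq_right.1 hyt)

/-- The odd part of the centralizer of `u`. -/
theorem Pair.exists_odd_part (P : Pair u t) :
    ∃ O : Subgroup G, O ≤ Subgroup.centralizer ({u} : Set G) ∧
      Nat.card (Subgroup.centralizer ({u} : Set G)) = 4 * Nat.card O ∧ Odd (Nat.card O) ∧
      (∀ x, x * u = u * x → ∀ o ∈ O, x * o * x⁻¹ ∈ O) ∧
      (∀ x, x * u = u * x → ∃ τ ∈ four P.hu P.ht P.hc, ∃ o ∈ O, x = τ * o) ∧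
      (∀ x, x * u = u * x → Odd (orderOf x) → x ∈ O) := by
  have : Fact (Nat.Prime 2) := ⟨Nat.prime_two⟩
  obtain ⟨S, hS⟩ := P.exists_sylow
  set C := Subgroup.centralizer ({u} : Set G) with hC
  have hle : (S : Subgroup G) ≤ C := by
    rw [hS]
    intro x hx
    rw [hC, Subgroup.mem_centralizer_singleton_iff]
    rcases hx with rfl | rfl | rfl | rfl
    · simp
    · rfl
    · exact P.hc.symm
    · rw [mul_assoc, ← P.hc]
  set S' := S.subtype hle with hS'
  have hS'e : ((S' : Sylow 2 C) : Subgroup C) = (four P.hu P.ht P.hc).subgroupOf C := by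
    rw [hS', Sylow.coe_subtype, hS]
  have hNC : Subgroup.normalizer ((S' : Subgroup C) : Set C) ≤
      Subgroup.centralizer ((S' : Subgroup C) : Set C) := by
    intro n hn x hx
    have hnu : (n : G) * u = u * n := Subgroup.mem_centralizer_singleton_iff.1 n.2
    have hx' : (x : G) ∈ four P.hu P.ht P.hc := by
      have hx2 : x ∈ (S' : Subgroup C) := hx
      rwa [hS'e, Subgroup.mem_subgroupOf] at hx2
    have htS : (⟨t, hle (hS ▸ (Or.inr (Or.inr (Or.inl rfl))))⟩ : C) ∈ (S' : Subgroup C) := by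
      rw [hS'e, Subgroup.mem_subgroupOf]; exact Or.inr (Or.inr (Or.inl rfl))
    have hnt := (Subgroup.mem_normalizer_iff.1 hn _).1 htS
    rw [hS'e, Subgroup.mem_subgroupOf] at hnt
    have hcomm : (n : G) * t = t * n := by
      rcases hnt with e | e | e | e
      · exact absurd (conj_eq_one_iff.1 e) P.t1
      · exfalso
        have e' : (n : G) * t * (n : G)⁻¹ = (n : G) * u * (n : G)⁻¹ := by
          rw [hnu, mul_inv_cancel_right]; exact e
        exact P.tu (mul_left_cancel (mul_right_cancel e'))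
      · exact P.comm_of_normalizes hnu (Or.inl e)
      · exact P.comm_of_normalizes hnu (Or.inr e)
    refine Subtype.ext ?_
    show (x : G) * n = n * x
    rcases hx' with e | e | e | e <;> rw [e]
    · simp
    · exact hnu.symm
    · exact hcomm.symm
    · rw [← mul_assoc, hnu, mul_assoc, mul_assoc, hcomm]
  have hK := MonoidHom.ker_transferSylow_isComplement' S' hNC
  set K := (MonoidHom.transferSylow S' hNC).ker with hKdef
  have hKn : K.Normal := by rw [hKdef]; infer_instance
  clear_value K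
  have hcard : Nat.card C = 4 * Nat.card K := by
    rw [← hK.card_mul, hS'e, Nat.card_congr (Subgroup.subgroupOfEquivOfLe (hS ▸ hle)).toEquiv,
      P.card_four, mul_comm]
  have hodd : Odd (Nat.card K) := by
    rw [← hK.index_eq_card, Nat.odd_iff]
    have := S'.not_dvd_index
    omega
  have hdec : ∀ x, x * u = u * x → ∃ τ ∈ four P.hu P.ht P.hc, ∃ o ∈ K.map C.subtype, x = τ * o := by
    intro x hx
    obtain ⟨⟨a, b⟩, hab⟩ := hK.symm.2 ⟨x, Subgroup.mem_centralizer_singleton_iff.2 hx⟩
    refine ⟨((a : C) : G), ?_, ((b : C) : G), Subgroup.mem_map_of_mem C.subtype b.2,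
      (congrArg Subtype.val hab).symm⟩
    exact Subgroup.mem_subgroupOf.1 (hS'e.le a.2)
  refine ⟨K.map C.subtype, Subgroup.map_subtype_le K, ?_, ?_, ?_, hdec, ?_⟩
  · rw [Subgroup.card_map_of_injective C.subtype_injective]; exact hcard
  · rw [Subgroup.card_map_of_injective C.subtype_injective]; exact hodd
  · rintro x hx _ ⟨o, ho, rfl⟩
    obtain ⟨xc, hxc⟩ : ∃ xc : C, C.subtype xc = x :=
      ⟨⟨x, Subgroup.mem_centralizer_singleton_iff.2 hx⟩, rfl⟩
    refine ⟨xc * o * xc⁻¹, hKn.conj_mem o ho xc, ?_⟩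
    rw [map_mul, map_mul, map_inv, hxc]
  · intro x hx ho
    obtain ⟨τ, hτ, _, ⟨o, ho', rfl⟩, rfl⟩ := hdec x hx
    have hxC : τ * C.subtype o ∈ C := Subgroup.mem_centralizer_singleton_iff.2 hx
    have hτC : τ ∈ C := hle (hS ▸ hτ)
    have hτsq : τ * τ = 1 := by
      rcases P.mem_four.1 hτ with rfl | ⟨i, rfl⟩
      · simp
      · exact P.inv3_sq i
    have hsq : (τ * C.subtype o) ^ 2 ∈ K.map C.subtype := by
      refine ⟨⟨τ, hτC⟩⁻¹ * o * ⟨τ, hτC⟩ * o,
        mul_mem (hKn.conj_mem' o ho' _) ho', ?_⟩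
      show τ⁻¹ * (o : G) * τ * o = (τ * (o : G)) ^ 2
      rw [inv_eq_of_mul_eq_one_right hτsq, pow_two]; group
    obtain ⟨l, hl⟩ := ho
    have e : τ * C.subtype o = ((τ * C.subtype o) ^ 2) ^ (l + 1) := by
      rw [← pow_mul, show 2 * (l + 1) = orderOf (τ * C.subtype o) + 1 by omega, pow_succ,
        pow_orderOf_eq_one, one_mul]
    rw [e]
    exact pow_mem hsq _

/-- Any two of the three involutions are interchanged inside the normalizer of the four group. -/
theorem Pair.exists_normalizing (P : Pair u t)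
    (hconj : ∀ z : G, z * z = 1 → z ≠ 1 → IsConj u z) (i j : Fin 3) :
    ∃ σ : G, σ * inv3 u t i = inv3 u t j * σ ∧ ∀ k, ∃ l, σ * inv3 u t k = inv3 u t l * σ := by
  have : Fact (Nat.Prime 2) := ⟨Nat.prime_two⟩
  obtain ⟨S, hS⟩ := P.exists_sylow
  obtain ⟨x, hx⟩ := isConj_iff.1 ((hconj _ (P.inv3_sq i) (P.inv3_ne i)).symm.trans
    (hconj _ (P.inv3_sq j) (P.inv3_ne j)))
  set D := Subgroup.centralizer ({inv3 u t j} : Set G) with hD
  have hin : ∀ k, inv3 u t k ∈ (S : Subgroup G) := fun k => hS ▸ P.mem_four.2 (Or.inr ⟨k, rfl⟩)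
  have hle1 : (S : Subgroup G) ≤ D := by
    intro a ha
    rw [hS, P.mem_four] at ha
    rw [hD, Subgroup.mem_centralizer_singleton_iff]
    rcases ha with rfl | ⟨k, rfl⟩
    · simp
    · exact P.inv3_comm k j
  have hle2 : ((x • S : Sylow 2 G) : Subgroup G) ≤ D := by
    intro a ha
    rw [Sylow.coe_subgroup_smul, Subgroup.mem_pointwise_smul_iff_inv_smul_mem, ← map_inv,
      MulAut.smul_def, MulAut.conj_apply, inv_inv] at ha
    rw [hS, P.mem_four] at ha
    rw [hD, Subgroup.mem_centralizer_singleton_iff, ← hx]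
    have ea : a = x * (x⁻¹ * a * x) * x⁻¹ := by group
    rw [ea]
    rcases ha with e | ⟨k, e⟩ <;> rw [e]
    · simp
    · calc x * inv3 u t k * x⁻¹ * (x * inv3 u t i * x⁻¹) = x * (inv3 u t k * inv3 u t i) * x⁻¹ := by group
        _ = x * (inv3 u t i * inv3 u t k) * x⁻¹ := by rw [P.inv3_comm]
        _ = _ := by group
  obtain ⟨y, hy⟩ := MulAction.exists_smul_eq D ((x • S).subtype hle2) (S.subtype hle1)
  have hmem : ∀ a ∈ (S : Subgroup G), (y : G) * x * a * ((y : G) * x)⁻¹ ∈ (S : Subgroup G) := by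
    intro a ha
    have h1 : x * a * x⁻¹ ∈ ((x • S : Sylow 2 G) : Subgroup G) := by
      rw [Sylow.coe_subgroup_smul, Subgroup.mem_pointwise_smul_iff_inv_smul_mem, ← map_inv,
        MulAut.smul_def, MulAut.conj_apply, inv_inv]
      simpa [mul_assoc] using ha
    have h2 : y * (⟨x * a * x⁻¹, hle2 h1⟩ : D) * y⁻¹ ∈ ((S.subtype hle1 : Sylow 2 D) : Subgroup D) := by
      rw [← hy, Sylow.coe_subgroup_smul]
      exact Subgroup.smul_mem_pointwise_smul _ (MulAut.conj y) _
        (by rw [Sylow.coe_subtype, Subgroup.mem_subgroupOf]; exact h1)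
    rw [Sylow.coe_subtype, Subgroup.mem_subgroupOf] at h2
    convert h2 using 1
    simp [mul_assoc]
  refine ⟨(y : G) * x, ?_, fun k => ?_⟩
  · have hyc : (y : G) * inv3 u t j = inv3 u t j * y := Subgroup.mem_centralizer_singleton_iff.1 y.2
    rw [← mul_assoc (inv3 u t j), ← hyc, ← hx]
    group
  · have := hmem _ (hin k)
    rw [hS, P.mem_four] at this
    rcases this with e | ⟨l, e⟩
    · exact absurd (conj_eq_one_iff.1 e) (P.inv3_ne k)
    · exact ⟨l, by rw [← e]; group⟩

end Cfsg.Agent.FourConst
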