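/-
The simple case: the group has order 60.

* `Setting`, `Setting.oComm`, `Setting.dichotomy`, `Hyp.simple_facts`
-/
import Cfsg.Agent.Lib.FourConst.Involution

set_option autoImplicit false
set_option linter.style.haveILetI false

namespace Cfsg.Agent.FourConst

open Cfsg Cfsg.Agent
open scoped ComplexConjugate commutatorElement

variable {G : Type*} [Group G] [Finite G] {u t : G}

/-- Standing data of the simple case. -/
structure Setting (u t : G) (O : Subgroup G) : Prop where
  hyp : Hyp u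
  simple : IsSimpleGroup G
  pair : Pair u t
  oLe : O ≤ Subgroup.centralizer ({u} : Set G)
  card : Nat.card (Subgroup.centralizer ({u} : Set G)) = 4 * Nat.card O
  oOdd : Odd (Nat.card O)
  oNormal : ∀ x, x * u = u * x → ∀ o ∈ O, x * o * x⁻¹ ∈ O
  dec : ∀ x, x * u = u * x → ∃ τ, (τ = 1 ∨ ∃ i, τ = inv3 u t i) ∧ ∃ o ∈ O, x = τ * o
  oddMem : ∀ x, x * u = u * x → Odd (orderOf x) → x ∈ O

variable {O : Subgroup G}

theorem Setting.comm_u (S : Setting u t O) {g : G} (hg : g ∈ O) : g * u = u * g :=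
  Subgroup.mem_centralizer_singleton_iff.1 (S.oLe hg)

theorem Setting.odd_order (S : Setting u t O) {g : G} (hg : g ∈ O) : Odd (orderOf g) :=
  S.oOdd.of_dvd_nat (Subgroup.orderOf_dvd_natCard O hg)

theorem Setting.eq_one_of_sq (S : Setting u t O) {g : G} (hg : g ∈ O) (h2 : g * g = 1) : g = 1 := by
  obtain ⟨l, hl⟩ := S.odd_order hg
  have := pow_orderOf_eq_one g
  rwa [hl, pow_succ, pow_mul, pow_two, h2, one_pow, one_mul] at this

theorem Setting.exists_model (S : Setting u t O) {χ : IrrCharacter G} (hχ : χ ∈ setA u) :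
    Nonempty (Model (inv3 u t) (χ : G → ℂ)) :=
  have := S.simple
  FourConst.exists_model S.hyp.perfect (S.hyp.deg_setA hχ) (fun _ h => eq_one_of_value3 S.hyp hχ h)
    S.pair.hu S.pair.ht S.pair.hc (mem_setA.1 hχ) (value_deg3 S.hyp hχ S.pair.ht S.pair.t1)
    (value_deg3 S.hyp hχ (S.pair.inv3_sq 2) (S.pair.inv3_ne 2))

section coords

variable {χ : G → ℂ}

theorem Model.block (M : Model (inv3 u t) χ) {g : G} (hg : g * u = u * g) :
    M.Φ g 0 1 = 0 ∧ M.Φ g 0 2 = 0 ∧ M.Φ g 1 0 = 0 ∧ M.Φ g 2 0 = 0 := by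
  have hg' : g * inv3 u t 0 = inv3 u t 0 * g := hg
  refine ⟨?_, ?_, ?_, ?_⟩ <;> refine M.off_block hg' ?_ <;> simp [sgn] <;> norm_num

theorem Model.commute_of_block (M : Model (inv3 u t) χ) {g : G} (h1 : M.Φ g 0 1 = 0) (h2 : M.Φ g 0 2 = 0)
    (h3 : M.Φ g 1 0 = 0) (h4 : M.Φ g 2 0 = 0) : g * u = u * g := by
  apply M.inj
  have hd : M.Φ u = Matrix.diagonal (sgn 0) := M.diag 0
  rw [map_mul, map_mul, hd]
  ext a b
  fin_cases a <;> fin_cases b <;> simp [Matrix.mul_diagonal, Matrix.diagonal_mul, sgn, h1, h2, h3, h4]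

theorem commute_all {g : G} (hu : g * u = u * g) (ht : g * t = t * g) (i : Fin 3) :
    g * inv3 u t i = inv3 u t i * g := by
  fin_cases i
  · exact hu
  · exact ht
  · exact Commute.mul_right hu ht

theorem Model.diag_entry_mul (M : Model (inv3 u t) χ) {g g' : G}
    (hg : ∀ i, g * inv3 u t i = inv3 u t i * g) (hg' : ∀ i, g' * inv3 u t i = inv3 u t i * g')
    (i : Fin 3) : M.Φ (g * g') i i = M.Φ g i i * M.Φ g' i i := by
  rw [map_mul, M.diag_of_commute hg, M.diag_of_commute hg', Matrix.diagonal_mul_diagonal]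
  simp

theorem Model.block_mul (M : Model (inv3 u t) χ) {g g' : G} (hg : g * u = u * g) :
    M.Φ (g * g') 0 0 = M.Φ g 0 0 * M.Φ g' 0 0 := by
  obtain ⟨h1, h2, -, -⟩ := M.block hg
  simp [map_mul, Matrix.mul_apply, Fin.sum_univ_three, h1, h2]

end coords

/-- The odd part of the centralizer is abelian. -/
theorem Setting.oComm (S : Setting u t O) {x y : G} (hx : x ∈ O) (hy : y ∈ O) : x * y = y * x := by
  classical
  have := S.simple
  obtain ⟨χ, hχ⟩ := S.hyp.setA_nonempty
  obtain ⟨M⟩ := S.exists_model hχ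
  -- the two dimensional constituent
  let Ψ : O →* Matrix (Fin 2) (Fin 2) ℂ :=
    { toFun := fun g => !![M.Φ g 1 1, M.Φ g 1 2; M.Φ g 2 1, M.Φ g 2 2]
      map_one' := by simp [Matrix.one_fin_two]
      map_mul' := fun a b => by
        obtain ⟨-, -, h3, h4⟩ := M.block (S.comm_u a.2)
        simp [Subgroup.coe_mul, map_mul, Matrix.mul_apply, Fin.sum_univ_three, h3, h4] }
  let lam : O →* ℂ :=
    { toFun := fun g => M.Φ g 0 0
      map_one' := by simp
      map_mul' := fun a b => M.block_mul (g' := (b : G)) (S.comm_u a.2) }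
  let ρ : Representation ℂ O (Fin 2 → ℂ) :=
    ((Matrix.toLinAlgEquiv (Pi.basisFun ℂ (Fin 2))).toAlgHom.toRingHom.toMonoidHom).comp Ψ
  have hρ : ∀ g, ρ.character g = (Ψ g).trace := fun g => by
    show LinearMap.trace ℂ _ (Matrix.toLinAlgEquiv (Pi.basisFun ℂ (Fin 2)) (Ψ g)) = _
    rw [LinearMap.trace_eq_matrix_trace ℂ (Pi.basisFun ℂ (Fin 2))]
    congr 1
    exact LinearMap.toMatrix_toLin _ _ _
  have hsplit : ∀ g : O, (χ : G → ℂ) g = lam g + ρ.character g := by
    intro g
    rw [← M.trace, hρ, Matrix.trace_fin_three]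
    show _ = M.Φ g 0 0 + Matrix.trace !![M.Φ g 1 1, M.Φ g 1 2; M.Φ g 2 1, M.Φ g 2 2]
    rw [Matrix.trace_fin_two]
    simp [add_assoc]
  have := Fintype.ofFinite O
  have := Fintype.ofFinite (IrrCharacter O)
  obtain ⟨m, hm, -⟩ := decompose_at (Char.isCharacter_character ρ)
  choose d hd0 hd using fun φ : IrrCharacter O => exists_nat_degree φ
  have hdeg : ∀ φ, m φ ≠ 0 → d φ = 1 := by
    intro φ hφ
    have h2 : (2 : ℂ) = ∑ φ, (m φ : ℂ) * (d φ : ℂ) := by
      have := hm 1
      rw [Representation.char_one, Module.finrank_fin_fun] at this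
      simpa [hd] using this
    have h2' : 2 = ∑ φ, m φ * d φ := by exact_mod_cast h2
    have hle : m φ * d φ ≤ 2 := by
      rw [h2']
      exact Finset.single_le_sum (f := fun φ => m φ * d φ) (fun _ _ => Nat.zero_le _) (Finset.mem_univ φ)
    have hle' : d φ ≤ 2 := le_trans (Nat.le_mul_of_pos_left _ (Nat.pos_of_ne_zero hφ)) hle
    have hdvd : d φ ∣ Nat.card O := by
      have := ClassCount.degree_dvd_card φ
      rwa [show charDegree (φ : O → ℂ) = d φ by
        exact_mod_cast (ClassCount.apply_one_eq_charDegree φ).symm.trans (hd φ)] at this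
    have hodd : Odd (d φ) := S.oOdd.of_dvd_nat hdvd
    have := hd0 φ
    obtain ⟨l, hl⟩ := hodd
    omega
  set k : O := ⁅(⟨x, hx⟩ : O), ⟨y, hy⟩⁆ with hk
  have hkill : ∀ l : O →* ℂ, l k = 1 := by
    intro l
    have : l.toHomUnits k = 1 := by
      rw [hk, map_commutatorElement, commutatorElement_eq_one_iff_mul_comm, mul_comm]
    exact congrArg Units.val this
  have hρk : ρ.character k = 2 := by
    have h1 := hm 1
    rw [Representation.char_one, Module.finrank_fin_fun] at h1
    rw [hm k, show (2 : ℂ) = ((2 : ℕ) : ℂ) by norm_num, h1]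
    refine Finset.sum_congr rfl fun φ _ => ?_
    by_cases hφ : m φ = 0
    · simp [hφ]
    obtain ⟨l, hl⟩ := Char.exists_hom_of_degree_one (Char.IsIrrCharacter.isCharacter φ.2)
      (by rw [hd φ, hdeg φ hφ, Nat.cast_one])
    rw [← hl, hkill l, map_one]
  have h3 : (χ : G → ℂ) k = 3 := by rw [hsplit, hkill lam, hρk]; norm_num
  have hk1 : (k : G) = 1 := eq_one_of_value3 S.hyp hχ h3
  have : k = 1 := Subtype.ext hk1
  have hk' : ⁅(⟨x, hx⟩ : O), (⟨y, hy⟩ : O)⁆ = (1 : O) := hk.symm.trans this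
  exact congrArg Subtype.val (commutatorElement_eq_one_iff_mul_comm.1 hk')

/-- An odd element commuting with the four group, conjugated inside its normalizer. -/
theorem Setting.transport (S : Setting u t O) {g : G} (hg : g ∈ O) (hgt : g * t = t * g) (i j : Fin 3) :
    ∃ σ g' : G, σ * inv3 u t i = inv3 u t j * σ ∧ (∀ k, ∃ l, σ * inv3 u t k = inv3 u t l * σ) ∧
      g * σ = σ * g' ∧ g' ∈ O ∧ ∀ k, g' * inv3 u t k = inv3 u t k * g' := by
  have := S.simple
  obtain ⟨σ, hσ, hn⟩ := S.pair.exists_normalizing (fun z h1 h2 => S.hyp.isConj_involution h1 h2) i j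
  have hcomm : ∀ k, σ⁻¹ * g * σ * inv3 u t k = inv3 u t k * (σ⁻¹ * g * σ) := by
    intro k
    obtain ⟨l, hl⟩ := hn k
    have e : inv3 u t k = σ⁻¹ * inv3 u t l * σ := by rw [mul_assoc, ← hl, inv_mul_cancel_left]
    calc σ⁻¹ * g * σ * inv3 u t k = σ⁻¹ * (g * inv3 u t l) * σ := by rw [e]; group
      _ = σ⁻¹ * (inv3 u t l * g) * σ := by rw [commute_all (S.comm_u hg) hgt l]
      _ = inv3 u t k * (σ⁻¹ * g * σ) := by rw [e]; group
  refine ⟨σ, σ⁻¹ * g * σ, hσ, hn, by group, S.oddMem _ (hcomm 0) ?_, hcomm⟩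
  have : orderOf (MulAut.conj σ⁻¹ g) = orderOf g := (MulAut.conj σ⁻¹).orderOf_eq g
  rw [MulAut.conj_apply, inv_inv] at this
  rw [this]
  exact S.odd_order hg

/-- Either `t` centralizes the odd part or it acts on it without fixed points. -/
theorem Setting.dichotomy (S : Setting u t O) :
    (∀ g ∈ O, g * t = t * g) ∨ ∀ g ∈ O, g * t = t * g → g = 1 := by
  by_contra hno
  push Not at hno
  obtain ⟨⟨x, hx, hxt⟩, g, hg, hgt, hg1⟩ := hno
  have := S.simple
  obtain ⟨χ, hχ⟩ := S.hyp.setA_nonempty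
  obtain ⟨M⟩ := S.exists_model hχ
  have hflat : ∀ a ∈ O, a * t = t * a → M.Φ a 1 1 = M.Φ a 2 2 := by
    intro a ha hat
    by_contra hne
    apply hxt
    have hD := M.diag_of_commute (commute_all (S.comm_u ha) hat)
    have hc : M.Φ a * M.Φ x = M.Φ x * M.Φ a := by rw [← map_mul, ← map_mul, S.oComm ha hx]
    rw [hD] at hc
    have e12 := congrFun (congrFun hc 1) 2
    have e21 := congrFun (congrFun hc 2) 1
    simp [Matrix.mul_diagonal, Matrix.diagonal_mul] at e12 e21
    have h12 : M.Φ x 1 2 = 0 := by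
      by_contra h0
      exact hne (mul_right_cancel₀ h0 (e12.trans (mul_comm _ _)))
    have h21 : M.Φ x 2 1 = 0 := by
      by_contra h0
      exact hne (mul_right_cancel₀ h0 (e21.trans (mul_comm _ _))).symm
    obtain ⟨h1, h2, h3, h4⟩ := M.block (S.comm_u hx)
    apply M.inj
    rw [map_mul, map_mul, show M.Φ t = Matrix.diagonal (sgn 1) from M.diag 1]
    ext p q
    fin_cases p <;> fin_cases q <;>
      simp [Matrix.mul_diagonal, Matrix.diagonal_mul, sgn, h1, h2, h3, h4, h12, h21]
  obtain ⟨σ, g', hσ, hn, he, hg'O, hg'c⟩ := S.transport hg hgt 0 1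
  have hgc := commute_all (S.comm_u hg) hgt
  have h10 : M.Φ g 1 1 = M.Φ g' 0 0 := M.perm hσ hgc hg'c he
  obtain ⟨a, ha⟩ := hn 1
  obtain ⟨b, hb⟩ := hn 2
  have hga := M.perm ha hgc hg'c he
  have hgb := M.perm hb hgc hg'c he
  have hinj : ∀ {p q k l : Fin 3}, σ * inv3 u t p = inv3 u t k * σ → σ * inv3 u t q = inv3 u t l * σ →
      k = l → p = q := by
    intro p q k l hp hq e
    subst e
    exact S.pair.inv3_injective (mul_left_cancel (hp.trans hq.symm))
  have ha1 : a ≠ 1 := fun e => absurd (hinj ha hσ e) (by decide)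
  have hb1 : b ≠ 1 := fun e => absurd (hinj hb hσ e) (by decide)
  have hab : a ≠ b := fun e => absurd (hinj ha hb e) (by decide)
  have h12' := hflat g' hg'O (hg'c 1)
  have h12 := hflat g hg hgt
  have h02 : M.Φ g 0 0 = M.Φ g 2 2 := by
    rw [← h12'] at hgb
    have hcases : ∀ a b : Fin 3, a ≠ 1 → b ≠ 1 → a ≠ b → (a = 0 ∧ b = 2) ∨ (a = 2 ∧ b = 0) := by decide
    rcases hcases a b ha1 hb1 hab with ⟨rfl, rfl⟩ | ⟨rfl, rfl⟩
    · exact hga.trans hgb.symm
    · exact hgb.trans hga.symm
  apply hg1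
  have hz : g ∈ Subgroup.center G := by
    rw [Subgroup.mem_center_iff]
    intro y
    apply M.inj
    have hsc : M.Φ g = Matrix.diagonal (fun _ => M.Φ g 2 2) := by
      rw [M.diag_of_commute hgc]
      congr 1
      funext i
      fin_cases i
      · simp [Matrix.diagonal_apply_eq, h02]
      · simp [h12]
      · rfl
    rw [map_mul, map_mul, hsc]
    ext p q
    simp [Matrix.mul_diagonal, Matrix.diagonal_mul, mul_comm]
  rwa [center_eq_bot S.hyp, Subgroup.mem_bot] at hz

/-- `t` centralizes `O`: each degree three character sums to zero over `O`. -/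
theorem Setting.sum_of_centralizes (S : Setting u t O) [Fintype O] (hall : ∀ g ∈ O, g * t = t * g)
    (hO : O ≠ ⊥) {χ : IrrCharacter G} (hχ : χ ∈ setA u) : ∑ g : O, (χ : G → ℂ) g = 0 := by
  have := S.simple
  obtain ⟨M⟩ := S.exists_model hχ
  have hc : ∀ g : O, ∀ i, (g : G) * inv3 u t i = inv3 u t i * g :=
    fun g => commute_all (S.comm_u g.2) (hall g g.2)
  have hz : ∀ i, ∑ g : O, M.Φ (g : G) i i = 0 := by
    intro i
    obtain ⟨g₀, hg₀⟩ : ∃ g₀ : O, M.Φ (g₀ : G) i i ≠ 1 := by
      by_contra hno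
      push Not at hno
      apply hO
      rw [Subgroup.eq_bot_iff_forall]
      intro g hg
      apply M.inj
      rw [map_one, M.diag_of_commute (hc ⟨g, hg⟩), ← Matrix.diagonal_one]
      congr 1
      funext j
      obtain ⟨σ, g', hσ, -, he, hg'O, hg'c⟩ := S.transport hg (hall g hg) i j
      rw [M.perm hσ (hc ⟨g, hg⟩) hg'c he]
      exact hno ⟨g', hg'O⟩
    have hshift : ∑ g : O, M.Φ (g : G) i i = M.Φ (g₀ : G) i i * ∑ g : O, M.Φ (g : G) i i := by
      rw [Finset.mul_sum]
      refine (Equiv.sum_comp (Equiv.mulLeft g₀) (fun g : O => M.Φ (g : G) i i)).symm.trans ?_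
      refine Finset.sum_congr rfl fun g _ => ?_
      exact M.diag_entry_mul (hc g₀) (hc g) i
    by_contra h0
    exact hg₀ (mul_right_cancel₀ h0 ((one_mul _).trans hshift)).symm
  simp only [← M.trace, Matrix.trace_fin_three, Finset.sum_add_distrib, hz, add_zero]

variable {χ : G → ℂ}

/-- An element inverted by `t`, in coordinates. -/
theorem Setting.inverted_entries (S : Setting u t O) (M : Model (inv3 u t) χ) {g : G} (hg : g ∈ O)
    (hinv : t * g * t = g⁻¹) :
    M.Φ g 0 0 = 1 ∧ M.Φ g 1 1 = M.Φ g 2 2 ∧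
      M.Φ g 1 1 * M.Φ g 2 2 - M.Φ g 1 2 * M.Φ g 2 1 = 1 ∧ (M.Φ g 1 1 = 1 → g = 1) := by
  obtain ⟨h1, h2, h3, h4⟩ := M.block (S.comm_u hg)
  have hd : M.Φ t = Matrix.diagonal (sgn 1) := M.diag 1
  have hm : M.Φ t * M.Φ g * M.Φ t * M.Φ g = 1 := by
    rw [← map_mul, ← map_mul, ← map_mul, hinv, inv_mul_cancel, map_one]
  rw [hd] at hm
  have e : ∀ a b, ∑ c, sgn 1 a * M.Φ g a c * sgn 1 c * M.Φ g c b = (1 : Matrix (Fin 3) (Fin 3) ℂ) a b := by
    intro a b
    rw [← hm, Matrix.mul_apply]
    simp [Matrix.mul_diagonal, Matrix.diagonal_mul]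
  have e00 := e 0 0
  have e11 := e 1 1
  have e22 := e 2 2
  simp [Fin.sum_univ_three, sgn, h1, h2, h3, h4] at e00 e11 e22
  have hpow : ∀ n : ℕ, M.Φ (g ^ n) 0 0 = M.Φ g 0 0 ^ n := by
    intro n
    induction n with
    | zero => simp
    | succ n ih => rw [pow_succ', M.block_mul (S.comm_u hg), ih, pow_succ']
  have h00 : M.Φ g 0 0 = 1 := by
    obtain ⟨l, hl⟩ := S.odd_order hg
    have h5 := hpow (orderOf g)
    rw [pow_orderOf_eq_one, map_one, Matrix.one_apply_eq, hl, pow_succ, pow_mul, pow_two, e00,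
      one_pow, one_mul] at h5
    exact h5.symm
  have hdet := M.det g
  rw [Matrix.det_fin_three, h1, h2, h3, h4, h00] at hdet
  simp at hdet
  have had : M.Φ g 1 1 = M.Φ g 2 2 := by
    have hsq : (M.Φ g 1 1 - M.Φ g 2 2) ^ 2 = 0 := by
      linear_combination e11 + e22 - 2 * hdet
    exact sub_eq_zero.1 (pow_eq_zero_iff (by norm_num) |>.1 hsq)
  refine ⟨h00, had, hdet, fun h11 => ?_⟩
  apply M.inj
  rw [map_one]
  have htr := M.trace g
  rw [Matrix.trace_fin_three, h00, ← had, h11] at htr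
  have h3' : χ g = χ 1 := by rw [← htr, ← M.trace 1]; norm_num [Matrix.trace_fin_three]
  -- unipotent of finite order
  have hbc : M.Φ g 1 2 * M.Φ g 2 1 = 0 := by rw [← had, h11] at hdet; linear_combination -hdet
  have hpowA : ∀ n : ℕ, M.Φ (g ^ n) 1 1 = 1 ∧ M.Φ (g ^ n) 1 2 = n * M.Φ g 1 2 ∧
      M.Φ (g ^ n) 2 1 = n * M.Φ g 2 1 ∧ M.Φ (g ^ n) 2 2 = 1 := by
    intro n
    induction n with
    | zero => simp
    | succ n ih =>
      obtain ⟨i1, i2, i3, i4⟩ := ih
      obtain ⟨b1, b2, b3, b4⟩ := M.block (show g ^ n * u = u * g ^ n from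
        ((show Commute g u from S.comm_u hg).pow_left n).eq)
      simp only [pow_succ, map_mul, Matrix.mul_apply, Fin.sum_univ_three, b3, b4, i1, i2, i3, i4, h1,
        h2, h11, ← had, Nat.cast_add, Nat.cast_one]
      refine ⟨?_, ?_, ?_, ?_⟩
      · linear_combination (n : ℂ) * hbc
      · ring
      · ring
      · linear_combination (n : ℂ) * hbc
  obtain ⟨-, hb, hc, -⟩ := hpowA (orderOf g)
  rw [pow_orderOf_eq_one, map_one] at hb hc
  have hn0 : (orderOf g : ℂ) ≠ 0 := Nat.cast_ne_zero.2 (orderOf_pos g).ne'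
  simp [hn0] at hb hc
  ext a b
  fin_cases a <;> fin_cases b <;> simp [h00, h1, h2, h3, h4, h11, ← had, hb, hc]

/-- `t` inverts `O`: each degree three character sums to `|O|` over `O`. -/
theorem Setting.sum_of_inverts (S : Setting u t O) [Fintype O] (hall : ∀ g ∈ O, t * g * t = g⁻¹)
    {g₀ : G} (hg₀ : g₀ ∈ O) (hg₁ : g₀ ≠ 1) {χ : IrrCharacter G} (hχ : χ ∈ setA u) :
    ∑ g : O, (χ : G → ℂ) g = Nat.card O := by
  have := S.simple
  obtain ⟨M⟩ := S.exists_model hχ
  set N := ∑ g : O, M.Φ (g : G) with hN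
  have hfix : M.Φ g₀ * N = N := by
    rw [hN, Finset.mul_sum]
    refine Eq.trans (Finset.sum_congr rfl fun g _ => ?_)
      (Equiv.sum_comp (Equiv.mulLeft (⟨g₀, hg₀⟩ : O)) (fun g : O => M.Φ (g : G)))
    exact (map_mul M.Φ g₀ g).symm
  obtain ⟨h00, had, hdet, hone⟩ := S.inverted_entries M hg₀ (hall g₀ hg₀)
  obtain ⟨h1, h2, h3, h4⟩ := M.block (S.comm_u hg₀)
  have hne : 2 - 2 * M.Φ g₀ 1 1 ≠ 0 := fun e => hg₁ (hone (by linear_combination (-1 / 2 : ℂ) * e))
  have hN00 : N 0 0 = Nat.card O := by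
    rw [hN, Matrix.sum_apply, Finset.sum_congr rfl fun (g : O) _ =>
      (S.inverted_entries M g.2 (hall g g.2)).1, Finset.sum_const, Finset.card_univ,
      Nat.card_eq_fintype_card]
    simp
  have hcol : ∀ j, N 1 j = 0 ∧ N 2 j = 0 := by
    intro j
    have e1 := congrFun (congrFun hfix 1) j
    have e2 := congrFun (congrFun hfix 2) j
    simp [Matrix.mul_apply, Fin.sum_univ_three, h3, h4] at e1 e2
    rw [← had] at e2 hdet
    constructor
    · refine (mul_eq_zero.1 ?_).resolve_left hne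
      linear_combination (M.Φ g₀ 1 1 - 1) * e1 - M.Φ g₀ 1 2 * e2 - N 1 j * hdet
    · refine (mul_eq_zero.1 ?_).resolve_left hne
      linear_combination -M.Φ g₀ 2 1 * e1 + (M.Φ g₀ 1 1 - 1) * e2 - N 2 j * hdet
  have e : ∑ g : O, (χ : G → ℂ) g = N.trace := by
    rw [hN, Matrix.trace_sum]
    exact Finset.sum_congr rfl fun g _ => (M.trace g).symm
  rw [e, Matrix.trace_fin_three, hN00, (hcol 1).1, (hcol 2).2, add_zero, add_zero]

/-- The centralizer of an inverted element lies in the centralizer of `u`. -/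
theorem Setting.centralizer_le (S : Setting u t O) (hall : ∀ g ∈ O, t * g * t = g⁻¹) {g x : G}
    (hg : g ∈ O) (hg1 : g ≠ 1) (hx : x * g = g * x) : x * u = u * x := by
  have := S.simple
  obtain ⟨χ, hχ⟩ := S.hyp.setA_nonempty
  obtain ⟨M⟩ := S.exists_model hχ
  obtain ⟨h00, had, hdet, hone⟩ := S.inverted_entries M hg (hall g hg)
  obtain ⟨h1, h2, h3, h4⟩ := M.block (S.comm_u hg)
  have hne : 2 - 2 * M.Φ g 1 1 ≠ 0 := fun e => hg1 (hone (by linear_combination (-1 / 2 : ℂ) * e))
  have hm : M.Φ x * M.Φ g = M.Φ g * M.Φ x := by rw [← map_mul, ← map_mul, hx]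
  have e01 := congrFun (congrFun hm 0) 1
  have e02 := congrFun (congrFun hm 0) 2
  have e10 := congrFun (congrFun hm 1) 0
  have e20 := congrFun (congrFun hm 2) 0
  simp [Matrix.mul_apply, Fin.sum_univ_three, h1, h2, h3, h4, h00] at e01 e02 e10 e20
  rw [← had] at e02 e20 hdet
  refine M.commute_of_block ?_ ?_ ?_ ?_ <;> refine (mul_eq_zero.1 ?_).resolve_left hne
  · linear_combination (M.Φ g 1 1 - 1) * e01 - M.Φ g 2 1 * e02 - M.Φ x 0 1 * hdet
  · linear_combination -M.Φ g 1 2 * e01 + (M.Φ g 1 1 - 1) * e02 - M.Φ x 0 2 * hdet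
  · linear_combination -(M.Φ g 1 1 - 1) * e10 + M.Φ g 1 2 * e20 - M.Φ x 1 0 * hdet
  · linear_combination M.Φ g 2 1 * e10 - (M.Φ g 1 1 - 1) * e20 - M.Φ x 2 0 * hdet

/-- In the inverted case every `g ≠ 1` in `O` has as many decompositions as `u`. -/
theorem Setting.npair_inverted (S : Setting u t O) (hall : ∀ g ∈ O, t * g * t = g⁻¹) {g : G}
    (hg : g ∈ O) (hg1 : g ≠ 1) : npair u g = npair u u := by
  have := S.simple
  have P := S.pair
  rw [npair_involution S.hyp, npair_involution S.hyp]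
  refine Nat.card_congr (Equiv.subtypeEquivRight fun v => ?_)
  have hgu := S.comm_u hg
  refine and_congr_right fun hv => ⟨fun hvg => ?_, fun hvu => ?_⟩
  · have hvg' : v * g = g⁻¹ * v := by
      calc v * g = v * g * (v * g * (v * g))⁻¹ := by rw [hvg.1]; group
        _ = g⁻¹ * v⁻¹ := by group
        _ = g⁻¹ * v := by rw [inv_eq_of_mul_eq_one_right hv.1]
    have hvtg : v * t * g = g * (v * t) := by
      have h1 : t * g = g⁻¹ * t := by
        rw [← hall g hg, mul_assoc (t * g) t t, P.ht, mul_one]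
      have h2 : v * g⁻¹ = g * v := by
        calc v * g⁻¹ = g * (g⁻¹ * v) * g⁻¹ := by group
          _ = g * v := by rw [← hvg']; group
      rw [mul_assoc, h1, ← mul_assoc, h2, mul_assoc]
    have hvt := S.centralizer_le hall hg hg1 hvtg
    have hvu : v * u = u * v := by
      have hveq : v = v * t * t := by rw [mul_assoc, P.ht, mul_one]
      rw [hveq]
      exact Commute.mul_left hvt P.hc.symm
    refine ⟨?_, fun e => ?_⟩
    · calc v * u * (v * u) = v * v * (u * u) := by rw [mul_assoc v u, ← mul_assoc u v, ← hvu]; group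
        _ = 1 := by rw [hv.1, P.hu, one_mul]
    · have e' : v = u := by rw [← mul_inv_eq_one, inv_eq_of_mul_eq_one_right P.hu]; exact e
      rw [e', ← hgu] at hvg'
      exact hg1 (S.eq_one_of_sq hg (by rw [mul_eq_one_iff_eq_inv]; exact mul_right_cancel hvg'))
  · have hcomm : v * u = u * v := by
      calc v * u = v * u * (v * u * (v * u))⁻¹ := by rw [hvu.1]; group
        _ = u⁻¹ * v⁻¹ := by group
        _ = u * v := by rw [inv_eq_of_mul_eq_one_right hv.1, inv_eq_of_mul_eq_one_right P.hu]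
    have hinv : v * g * v = g⁻¹ := by
      obtain ⟨τ, hτ, o, ho, rfl⟩ := S.dec v hcomm
      have key : (τ = t ∨ τ = u * t) → τ * o * g * (τ * o) = g⁻¹ := by
        intro hτ'
        have hτg : τ * g * τ⁻¹ = g⁻¹ := by
          rcases hτ' with rfl | rfl
          · rw [inv_eq_of_mul_eq_one_right P.ht, hall g hg]
          · rw [show u * t * g * (u * t)⁻¹ = u * (t * g * t⁻¹) * u⁻¹ by group,
              inv_eq_of_mul_eq_one_right P.ht, hall g hg,
              show u * g⁻¹ = g⁻¹ * u from ((show Commute g u from hgu).inv_left).eq.symm,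
              mul_inv_cancel_right]
        have hvi : (τ * o)⁻¹ = τ * o := inv_eq_of_mul_eq_one_right hv.1
        calc τ * o * g * (τ * o) = τ * o * g * (τ * o)⁻¹ := by rw [hvi]
          _ = τ * (o * g * o⁻¹) * τ⁻¹ := by group
          _ = g⁻¹ := by rw [S.oComm ho hg, mul_inv_cancel_right, hτg]
      rcases hτ with rfl | ⟨i, rfl⟩
      · exfalso
        rw [one_mul] at hv
        exact hv.2 (S.eq_one_of_sq ho hv.1)
      fin_cases i
      · exfalso
        have hou := S.comm_u ho
        have h2 : o * o = 1 := by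
          have h := hv.1
          change u * o * (u * o) = 1 at h
          rwa [mul_assoc, ← mul_assoc o u, hou, ← mul_assoc u, ← mul_assoc u, P.hu, one_mul] at h
        have ho1 := S.eq_one_of_sq ho h2
        apply hvu.2
        show u * o * u = 1
        rw [ho1, mul_one, P.hu]
      · exact key (Or.inl rfl)
      · exact key (Or.inr rfl)
    refine ⟨by rw [← mul_assoc, hinv, inv_mul_cancel], fun e => ?_⟩
    have e' : g = v := by
      calc g = v * (v * g) := by rw [← mul_assoc, hv.1, one_mul]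
        _ = v := by rw [e, mul_one]
    exact hg1 (S.eq_one_of_sq hg (by rw [e']; exact hv.1))

theorem Setting.card_odd_part (S : Setting u t O) : Nat.card O = 1 := by
  classical
  have := S.simple
  by_contra hne
  have := Fintype.ofFinite O
  have hObot : O ≠ ⊥ := fun e => hne (by rw [e]; exact Subgroup.card_bot)
  obtain ⟨g₀, hg₀, hg₁⟩ := (Subgroup.ne_bot_iff_exists_ne_one.1 hObot).elim fun x hx =>
    (⟨x, x.2, fun e => hx (Subtype.ext e)⟩ : ∃ g, g ∈ O ∧ g ≠ 1)
  have h := S.hyp
  have ha : (setA u).card = 2 * Nat.card O := by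
    have := h.card_centralizer
    rw [S.card] at this
    rw [h.card_setA]
    omega
  obtain ⟨β, hβ⟩ := Finset.card_eq_one.1 h.card_setB
  obtain ⟨j, hj⟩ : ∃ j : ℕ, ∑ g : O, (β : G → ℂ) g = Nat.card O * j := by
    obtain ⟨j, hj⟩ := Char.IsCharacter.classInner_nat
      (Char.IsCharacter.restrict (Char.IsIrrCharacter.isCharacter β.2) O) (Char.isCharacter_one (G := O))
    refine ⟨j, ?_⟩
    rw [← hj, classInner]
    have : (Nat.card O : ℂ) ≠ 0 := Nat.cast_ne_zero.2 Nat.card_pos.ne'
    simp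
  let F : G → ℂ := fun g => 10 + 10 * valSum (setA u) g - 2 * valSum (setB u) g
  have hF : ∀ g : O, g ≠ 1 →
      (15 * Nat.card G * npair u (g : G) : ℂ) = (csize u : ℂ) ^ 2 * F g := by
    intro g hg
    have hn : ¬ IsConj u (g : G) := fun hc => by
      obtain ⟨h2, h1⟩ := h.isConj_iff_involution.1 hc
      exact h1 (S.eq_one_of_sq g.2 h2)
    have ho := h.orth hn
    rw [h.npair_eq]
    have : (Nat.card G : ℂ) ≠ 0 := Nat.cast_ne_zero.2 Nat.card_pos.ne'
    simp only [F]
    field_simp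
    linear_combination (75 : ℂ) * (csize u : ℂ) ^ 2 * ho
  have hF1 : F 1 = 60 * Nat.card O := by
    simp only [F, valSum]
    rw [Finset.sum_congr rfl fun χ hχ => by rw [h.deg_setA hχ],
      Finset.sum_congr (s₁ := setB u) rfl fun χ hχ => by rw [h.deg_setB hχ]]
    simp [ha, h.card_setB, map_ofNat]
    ring
  have hsumF : ∀ s : ℕ, (∀ χ ∈ setA u, ∑ g : O, (χ : G → ℂ) g = s) →
      ∑ g : O, F g = 10 * Nat.card O + 20 * Nat.card O * s - 2 * Nat.card O * j := by
    intro s hs
    have hA : ∑ g : O, valSum (setA u) (g : G) = 2 * Nat.card O * s := by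
      simp only [valSum]
      rw [Finset.sum_comm, Finset.sum_congr rfl fun χ hχ => by rw [← map_sum, hs χ hχ]]
      simp [ha]
    have hB : ∑ g : O, valSum (setB u) (g : G) = Nat.card O * j := by
      simp only [valSum, hβ, Finset.sum_singleton]
      rw [← map_sum, hj]
      simp
    simp only [F, Finset.sum_sub_distrib, Finset.sum_add_distrib, ← Finset.mul_sum, hA, hB]
    simp [Nat.card_eq_fintype_card]
    ring
  have hsum : ∀ s : ℕ, (∀ χ ∈ setA u, ∑ g : O, (χ : G → ℂ) g = s) →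
      15 * Nat.card G * ∑ g ∈ Finset.univ.erase (1 : O), npair u (g : G) +
        csize u ^ 2 * (50 * Nat.card O + 2 * Nat.card O * j) =
        csize u ^ 2 * (20 * Nat.card O * s) := by
    intro s hs
    have h1 := hsumF s hs
    rw [← Finset.add_sum_erase _ _ (Finset.mem_univ (1 : O)), OneMemClass.coe_one, hF1] at h1
    have h2 : (15 * Nat.card G * ∑ g ∈ Finset.univ.erase (1 : O), (npair u (g : G) : ℂ)) =
        (csize u : ℂ) ^ 2 * ∑ g ∈ Finset.univ.erase (1 : O), F g := by
      rw [Finset.mul_sum, Finset.mul_sum]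
      exact Finset.sum_congr rfl fun g hg => hF g (Finset.ne_of_mem_erase hg)
    have h3 : ((15 * Nat.card G * ∑ g ∈ Finset.univ.erase (1 : O), npair u (g : G) +
        csize u ^ 2 * (50 * Nat.card O + 2 * Nat.card O * j) : ℕ) : ℂ) =
        ((csize u ^ 2 * (20 * Nat.card O * s) : ℕ) : ℂ) := by
      push_cast
      linear_combination h2 + (csize u : ℂ) ^ 2 * h1
    exact_mod_cast h3
  have hcs : 0 < csize u ^ 2 := by have := csize_pos u; positivity
  have hOpos : 0 < Nat.card O := Nat.card_pos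
  rcases S.dichotomy with hall | hfix
  · have := hsum 0 fun χ hχ => by rw [S.sum_of_centralizes hall hObot hχ, Nat.cast_zero]
    simp only [mul_zero] at this
    have : 0 < csize u ^ 2 * (50 * Nat.card O + 2 * Nat.card O * j) := Nat.mul_pos hcs (by omega)
    omega
  · have htn : ∀ x ∈ O, t * x * t ∈ O := fun x hx => by
      have := S.oNormal t S.pair.hc.symm x hx
      rwa [inv_eq_of_mul_eq_one_right S.pair.ht] at this
    have hinv : ∀ g ∈ O, t * g * t = g⁻¹ := by
      intro g hg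
      refine eq_inv_of_mul_eq_one_left (hfix _ (mul_mem (htn g hg) hg) ?_)
      have hc := S.oComm hg (htn g hg)
      calc t * g * t * g * t = t * (g * (t * g * t)) := by group
        _ = t * (t * g * t * g) := by rw [hc]
    have := hsum (Nat.card O) fun χ hχ => S.sum_of_inverts hinv hg₀ hg₁ hχ
    rw [Finset.sum_congr rfl fun g hg => S.npair_inverted hinv g.2
        (fun e => Finset.ne_of_mem_erase hg (Subtype.ext e)), Finset.sum_const,
      Finset.card_erase_of_mem (Finset.mem_univ _), Finset.card_univ, ← Nat.card_eq_fintype_card,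
      smul_eq_mul, show 15 * Nat.card G * ((Nat.card O - 1) * npair u u) =
        (Nat.card O - 1) * (15 * npair u u * Nat.card G) by ring, h.npair_self] at this
    have h4 : 8 * (Nat.card O - 1) + (50 * Nat.card O + 2 * Nat.card O * j) =
        20 * Nat.card O * Nat.card O := by
      apply Nat.eq_of_mul_eq_mul_left hcs
      rw [← this]; ring
    obtain ⟨k, hk⟩ := S.oOdd
    obtain ⟨m, hm⟩ : ∃ m, Nat.card O = m := ⟨_, rfl⟩
    rw [hm] at h4 hk hne
    have hdvd : m ∣ 8 := by
      obtain ⟨n, rfl⟩ : ∃ n, m = n + 1 := ⟨m - 1, by omega⟩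
      simp only [Nat.add_sub_cancel] at h4
      have h5 : 8 + 20 * (n + 1) * (n + 1) = (n + 1) * (58 + 2 * j) := by linarith
      exact (Nat.dvd_add_left ⟨20 * (n + 1), by ring⟩).1 ⟨58 + 2 * j, h5⟩
    have := Nat.le_of_dvd (by norm_num) hdvd
    interval_cases m <;> omega

/-- The simple case. -/
theorem Hyp.simple_facts [IsSimpleGroup G] (h : Hyp u) :
    Nat.card G = 60 ∧ (setA u).card = 2 ∧ (∀ g, g * u = u * g → g * g = 1) := by
  obtain ⟨t, ht, ht1, htu, hc⟩ := h.exists_t
  have P : Pair u t := ⟨h.sq_one, ht, hc, h.ne, ht1, htu, h.card_sylow⟩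
  obtain ⟨O, hle, hcard, hodd, hnorm, hdec, hmem⟩ := P.exists_odd_part
  have S : Setting u t O := ⟨h, inferInstance, P, hle, hcard, hodd, hnorm,
    fun x hx => by
      obtain ⟨τ, hτ, o, ho, e⟩ := hdec x hx
      exact ⟨τ, P.mem_four.1 hτ, o, ho, e⟩, hmem⟩
  have hO := S.card_odd_part
  have hc4 : Nat.card (Subgroup.centralizer ({u} : Set G)) = 4 := by rw [hcard, hO]
  have hc0 : (setC u).card = 0 := by have := h.card_centralizer; omega
  have helt : ∀ g, g * u = u * g → g = 1 ∨ ∃ i, g = inv3 u t i := by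
    intro g hg
    obtain ⟨τ, hτ, o, ho, rfl⟩ := S.dec g hg
    have : o = 1 := by
      rw [Subgroup.eq_bot_of_card_eq _ hO] at ho
      exact ho
    rw [this, mul_one]
    exact hτ
  refine ⟨?_, by rw [h.card_setA, hc0], fun g hg => ?_⟩
  · have hn2 : npair u u = 2 := by
      rw [npair_involution h]
      let f : Fin 2 → {v : G // (v * v = 1 ∧ v ≠ 1) ∧ (v * u * (v * u) = 1 ∧ v * u ≠ 1)} := fun i =>
        ⟨inv3 u t i.succ, ⟨P.inv3_sq _, P.inv3_ne _⟩, by
          rw [show u = inv3 u t 0 from rfl, show inv3 u t 0 = u from rfl]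
          constructor
          · calc inv3 u t i.succ * u * (inv3 u t i.succ * u)
                = inv3 u t i.succ * (u * inv3 u t i.succ) * u := by group
              _ = inv3 u t i.succ * inv3 u t i.succ * (u * u) := by
                rw [show u * inv3 u t i.succ = inv3 u t i.succ * u from P.inv3_comm 0 i.succ]; group
              _ = 1 := by rw [P.inv3_sq, P.hu, one_mul]
          · intro e
            have e' : inv3 u t i.succ = inv3 u t 0 := by
              show inv3 u t i.succ = u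
              rw [← mul_inv_eq_one, inv_eq_of_mul_eq_one_right P.hu]; exact e
            exact Fin.succ_ne_zero i (P.inv3_injective e')⟩
      have hb : Function.Bijective f := by
        refine ⟨fun a b e => Fin.succ_injective _ (P.inv3_injective (congrArg Subtype.val e)), ?_⟩
        rintro ⟨v, ⟨hv, hv1⟩, hvu, hvu1⟩
        have hcm : v * u = u * v := by
          calc v * u = v * u * (v * u * (v * u))⁻¹ := by rw [hvu]; group
            _ = u⁻¹ * v⁻¹ := by group
            _ = u * v := by rw [inv_eq_of_mul_eq_one_right hv, inv_eq_of_mul_eq_one_right P.hu]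
        rcases helt v hcm with e | ⟨i, e⟩
        · exact absurd e hv1
        · have hi : i ≠ 0 := by
            rintro rfl
            subst e
            exact hvu1 P.hu
          exact ⟨i.pred hi, Subtype.ext (by simp [f, e])⟩
      rw [← Nat.card_congr (Equiv.ofBijective f hb)]
      simp
    have h1 := h.npair_self
    have h2 := csize_mul u
    rw [hn2] at h1
    rw [hc4] at h2
    have h3 : csize u * 120 = csize u * (8 * csize u) := by rw [← h2] at h1; nlinarith
    have h4 := Nat.eq_of_mul_eq_mul_left (csize_pos u) h3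
    omega
  · rcases helt g hg with rfl | ⟨i, rfl⟩
    · simp
    · exact P.inv3_sq i

end Cfsg.Agent.FourConst
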