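/-
The general case of the constant four problem.

* `Hyp.exists_simple_quotient`, `Hyp.setA_trivial`, `Hyp.isConj_of_lift`
* `Hyp.involution_case`, `Hyp.order_four_case`
-/
import Cfsg.Agent.Lib.FourConst.Simple
import Cfsg.Agent.Lib.CharApp.Clifford
import Cfsg.Agent.Lib.Cores.Basic
import Cfsg.Agent.S0494
import Cfsg.Agent.S3378
import Cfsg.Agent.S0016

set_option autoImplicit false
set_option linter.style.haveILetI false

namespace Cfsg.Agent.FourConst

open Cfsg Cfsg.Agent
open scoped ComplexConjugate commutatorElement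

variable {G : Type*} [Group G] [Finite G] {u : G}

theorem Hyp.exists_simple_quotient (h : Hyp u) :
    ∃ (M : Subgroup G) (_ : M.Normal), IsSimpleGroup (G ⧸ M) ∧ u ∉ M := by
  classical
  haveI : Nontrivial G := ⟨⟨u, 1, h.ne⟩⟩
  obtain ⟨M, ⟨hMn, hMne⟩, hmax⟩ := (Set.toFinite {M : Subgroup G | M.Normal ∧ M ≠ ⊤}).exists_maximalFor id _
    ⟨⊥, inferInstance, bot_ne_top⟩
  refine ⟨M, hMn, ?_, h.not_mem hMne⟩
  haveI : Nontrivial (G ⧸ M) := QuotientGroup.nontrivial_iff.2 hMne
  refine ⟨fun N hN => ?_⟩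
  have hle : M ≤ N.comap (QuotientGroup.mk' M) := fun x hx => by
    rw [Subgroup.mem_comap, QuotientGroup.mk'_apply, (QuotientGroup.eq_one_iff x).2 hx]
    exact one_mem N
  by_cases htop : N.comap (QuotientGroup.mk' M) = ⊤
  · right
    rw [← Subgroup.map_comap_eq_self_of_surjective (QuotientGroup.mk'_surjective M) N, htop,
      Subgroup.map_top_of_surjective _ (QuotientGroup.mk'_surjective M)]
  · left
    have he : N.comap (QuotientGroup.mk' M) = M :=
      le_antisymm (hmax ⟨hN.comap _, htop⟩ hle) hle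
    rw [← Subgroup.map_comap_eq_self_of_surjective (QuotientGroup.mk'_surjective M) N, he,
      QuotientGroup.map_mk'_self]

/-- A perfect group has no subgroup of index three, in the form needed. -/
theorem eq_top_of_index_three (hp : commutator G = ⊤) (T : Subgroup G) : T.index ≠ 3 := by
  intro h3
  let e : (G ⧸ T) ≃ Fin 3 := Finite.equivFinOfCardEq h3
  let f : G →* Equiv.Perm (Fin 3) := e.permCongrHom.toMonoidHom.comp (MulAction.toPermHom G (G ⧸ T))
  have hs : ∀ g, Equiv.Perm.sign (f g) = 1 := fun g => hom_trivial hp (Equiv.Perm.sign.comp f) g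
  have hcomm : ∀ a b : Equiv.Perm (Fin 3), Equiv.Perm.sign a = 1 → Equiv.Perm.sign b = 1 →
      a * b = b * a := by decide
  have hker : f.ker = ⊤ := by
    refine top_le_iff.1 (hp.symm.le.trans ?_)
    rw [_root_.commutator_def, Subgroup.commutator_le]
    intro a _ b _
    rw [MonoidHom.mem_ker, map_commutatorElement, commutatorElement_eq_one_iff_mul_comm]
    exact hcomm _ _ (hs a) (hs b)
  have htop : T = ⊤ := by
    refine (Subgroup.eq_top_iff' _).2 fun g => ?_
    have hg : f g = 1 := by rw [← MonoidHom.mem_ker, hker]; exact Subgroup.mem_top g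
    have h1 : MulAction.toPermHom G (G ⧸ T) g = 1 :=
      e.permCongrHom.injective (hg.trans (map_one _).symm)
    have h2 := Equiv.Perm.ext_iff.1 h1 ((1 : G) : G ⧸ T)
    rw [MulAction.toPermHom_apply, MulAction.toPerm_apply, Equiv.Perm.one_apply] at h2
    rw [MulAction.Quotient.smul_coe, smul_eq_mul, mul_one, QuotientGroup.eq, mul_one] at h2
    exact inv_mem_iff.1 h2
  rw [htop, Subgroup.index_top] at h3
  norm_num at h3

variable {M : Subgroup G} [M.Normal] [IsSimpleGroup (G ⧸ M)]

/-- The facts about the simple quotient. -/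
theorem Hyp.quot_facts (h : Hyp u) (hu : u ∉ M) :
    Nat.card (G ⧸ M) = 60 ∧ (setA (u : G ⧸ M)).card = 2 ∧
      (∀ g : G ⧸ M, g * u = u * g → g * g = 1) ∧
      Nat.card (Subgroup.centralizer ({(u : G ⧸ M)} : Set (G ⧸ M))) = 4 := by
  have hq := h.quot hu
  obtain ⟨h1, h2, h3⟩ := hq.simple_facts
  refine ⟨h1, h2, h3, ?_⟩
  have h4 := hq.card_setA
  rw [hq.card_centralizer]
  omega

/-- Degree three characters of value `-1` are trivial on `M`. -/
theorem Hyp.setA_trivial (h : Hyp u) (hu : u ∉ M) {χ : IrrCharacter G} (hχ : χ ∈ setA u) :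
    M ≤ Codegree.kerSub χ := by
  classical
  have := Fintype.ofFinite G
  have := Fintype.ofFinite M
  obtain ⟨hQ60, -, -, hCQ⟩ := h.quot_facts hu
  obtain ⟨ψ₀, hψ₀⟩ := (h.quot hu).setA_nonempty
  have hψ1 := (h.quot hu).deg_setA hψ₀
  have hψu := mem_setA.1 hψ₀
  have hχ3 := h.deg_setA hχ
  have hχc := Char.IsIrrCharacter.isCharacter χ.2
  have hres := Char.IsCharacter.restrict hχc M
  have h31 : (fun n : M => (χ : G → ℂ) n) 1 = ((3 : ℕ) : ℂ) := by simp [hχ3]
  obtain ⟨θ, hθ⟩ := CharApp.exists_constituent hres (by simp [hχ3])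
  obtain ⟨d, hd, hθ1⟩ := exists_nat_degree θ
  obtain ⟨e, he⟩ := Char.IsCharacter.classInner_nat hres (Char.IsIrrCharacter.isCharacter θ.2)
  have hdeg := CharApp.restrict_degree M χ.2 θ.2 hθ
  rw [hχ3, he, hθ1] at hdeg
  have hdeg' : 3 = e * (CharApp.inertia M (θ : M → ℂ)).index * d := by exact_mod_cast hdeg
  have hd13 : d = 1 ∨ d = 3 := (Nat.dvd_prime Nat.prime_three).1 ⟨_, hdeg'.trans (mul_comm _ _)⟩
  rcases hd13 with rfl | rfl
  swap
  · exfalso
    have hirr : IsIrrCharacter M (fun n : M => (χ : G → ℂ) n) := by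
      rw [CharApp.eq_of_constituent_of_degree hres θ.2 hθ h31 hθ1]
      exact θ.2
    have hc := Char.IsIrrCharacter.conj (Codegree.inflate M ψ₀).2
    have ht : CharApp.TrivOn M (fun g => conj ((Codegree.inflate M ψ₀ : G → ℂ) g)) := fun n => by
      simp only [Codegree.inflate_apply]
      rw [(QuotientGroup.eq_one_iff (n : G)).2 n.2, QuotientGroup.mk_one]
    have hprod := CharApp.gallagher_irr M χ.2 hirr hc ht
    set φ : IrrCharacter G := ⟨_, hprod⟩ with hφ
    have hφ1 : (φ : G → ℂ) 1 = 9 := by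
      simp only [φ, Pi.mul_apply, Codegree.inflate_apply, QuotientGroup.mk_one]
      rw [hχ3, hψ1, map_ofNat]; norm_num
    have hφu : (φ : G → ℂ) u = 1 := by
      simp only [φ, Pi.mul_apply, Codegree.inflate_apply]
      rw [mem_setA.1 hχ, hψu]; simp
    have hne : φ ≠ prin G := fun e' => by rw [e', prin_apply] at hφ1; norm_num at hφ1
    rcases h.trichotomy hne (by rw [hφu]; norm_num) with ⟨a, -⟩ | ⟨a, -⟩ | ⟨a, -⟩ <;>
      rw [hφ1] at a <;> norm_num at a
  rw [mul_one] at hdeg'
  have hT : CharApp.inertia M (θ : M → ℂ) = ⊤ := by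
    rw [← Subgroup.index_eq_one]
    rcases (Nat.dvd_prime Nat.prime_three).1 ⟨e, hdeg'.trans (mul_comm _ _)⟩ with h1 | h1
    · exact h1
    · exact absurd h1 (eq_top_of_index_three h.perfect _)
  have hinv : ∀ x : G, CliffordChar.conjFun M x (θ : M → ℂ) = θ := fun x =>
    CharApp.mem_inertia M |>.1 (hT ▸ Subgroup.mem_top x)
  have hrestr := CharApp.restrict_invariant M χ.2 θ.2 hθ hinv
  have he3 : e = 3 := by rw [hT, Subgroup.index_top] at hdeg'; omega
  rw [he, he3] at hrestr
  obtain ⟨l, hl⟩ := Char.exists_hom_of_degree_one (Char.IsIrrCharacter.isCharacter θ.2)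
    (by rw [hθ1, Nat.cast_one])
  let lu : M →* ℂˣ := l.toHomUnits
  have hval : ∀ n : M, (χ : G → ℂ) n = 3 * (lu n : ℂ) := fun n => by
    have := congrFun hrestr n
    rw [this, ← hl]; rfl
  obtain ⟨ρ, hρi, hρ⟩ := exists_rep (χ := χ) (n := 3) (by rw [hχ3]; norm_num)
  have hscal : ∀ n : M, ρ n = (lu n : ℂ) • LinearMap.id := by
    intro n
    obtain ⟨ω, hω⟩ := (Char.norm_character_eq_iff ρ (n : G)).1 (by
      have hn1 : ‖((lu n : ℂˣ) : ℂ)‖ = 1 := Complex.norm_eq_one_of_pow_eq_one (n := orderOf n) (by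
        rw [← Units.val_pow_eq_pow_val, ← map_pow, pow_orderOf_eq_one, map_one, Units.val_one])
        (orderOf_pos n).ne'
      rw [hρ, hval, Module.finrank_fin_fun, norm_mul, hn1]
      norm_num)
    rw [hω]
    congr 1
    have htr : (χ : G → ℂ) n = 3 * ω := by
      rw [← hρ]
      show LinearMap.trace ℂ _ (ρ n) = _
      rw [hω, map_smul, LinearMap.trace_id, Module.finrank_fin_fun, smul_eq_mul]
      push_cast; ring
    rw [hval] at htr
    exact (mul_left_cancel₀ (by norm_num) htr).symm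
  have hcube : ∀ n : M, lu n ^ 3 = 1 := fun n => by
    have := det_one h.perfect ρ (n : G)
    rw [hscal, LinearMap.det_smul, LinearMap.det_id, Module.finrank_fin_fun, mul_one] at this
    exact Units.ext (by simpa using this)
  set K : Subgroup G := Codegree.kerSub χ ⊓ M with hK
  have hKn : K.Normal := Subgroup.normal_inf_normal _ _
  have hmemK : ∀ n : M, (n : G) ∈ K ↔ lu n = 1 := by
    intro n
    rw [hK, Subgroup.mem_inf, Codegree.mem_kerSub, hval, hχ3]
    refine ⟨fun h' => Units.ext ?_, fun h' => ⟨by rw [h', Units.val_one, mul_one], n.2⟩⟩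
    rw [Units.val_one]
    linear_combination (1 / 3 : ℂ) * h'.1
  -- the range has order one or three
  have hrange : Nat.card lu.range ∣ 3 := by
    have hle : lu.range ≤ rootsOfUnity 3 ℂ := by
      rintro _ ⟨n, rfl⟩
      exact (mem_rootsOfUnity 3 _).2 (hcube n)
    have h3 : Nat.card (rootsOfUnity 3 ℂ) = 3 := Complex.card_rootsOfUnity 3
    exact h3 ▸ Subgroup.card_dvd_of_le hle
  have hkcard : Nat.card M = Nat.card K * Nat.card lu.range := by
    have e1 : lu.ker = K.subgroupOf M := by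
      ext n
      rw [MonoidHom.mem_ker, Subgroup.mem_subgroupOf, hmemK]
    rw [← Subgroup.card_mul_index lu.ker, Subgroup.index_ker, e1,
      Nat.card_congr (Subgroup.subgroupOfEquivOfLe (inf_le_right : K ≤ M)).toEquiv]
  rcases (Nat.dvd_prime Nat.prime_three).1 hrange with h1 | h3
  · intro n hn
    have : lu ⟨n, hn⟩ = 1 := by
      have hb := Subgroup.eq_bot_of_card_eq _ h1
      exact Subgroup.mem_bot.1 (hb ▸ ⟨⟨n, hn⟩, rfl⟩)
    exact ((hmemK ⟨n, hn⟩).2 this).1
  exfalso
  rw [h3] at hkcard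
  have huK : u ∉ K := fun hh => hu hh.2
  have hb := h.quot huK
  set π : G ⧸ K →* G ⧸ M := QuotientGroup.map K M (MonoidHom.id G) inf_le_right with hπ
  have hπs : Function.Surjective π := fun q => by
    obtain ⟨g, rfl⟩ := QuotientGroup.mk_surjective q
    exact ⟨g, rfl⟩
  have hcardG : Nat.card (G ⧸ K) = 180 := by
    have e1 := Subgroup.card_eq_card_quotient_mul_card_subgroup K
    have e2 := Subgroup.card_eq_card_quotient_mul_card_subgroup M
    rw [hQ60, hkcard, e1] at e2
    exact Nat.eq_of_mul_eq_mul_right (Nat.card_pos (α := K)) (by rw [e2]; ring)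
  have hD : Nat.card ((Subgroup.centralizer ({(u : G ⧸ M)} : Set (G ⧸ M))).comap π) = 12 := by
    have e1 := Subgroup.card_mul_index ((Subgroup.centralizer ({(u : G ⧸ M)} : Set (G ⧸ M))).comap π)
    rw [Subgroup.index_comap_of_surjective _ hπs, hcardG] at e1
    have e2 := Subgroup.card_mul_index (Subgroup.centralizer ({(u : G ⧸ M)} : Set (G ⧸ M)))
    rw [hCQ, hQ60] at e2
    have e3 : (Subgroup.centralizer ({(u : G ⧸ M)} : Set (G ⧸ M))).index = 15 := by omega
    rw [e3] at e1
    omega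
  have hCle : Subgroup.centralizer ({(u : G ⧸ K)} : Set (G ⧸ K)) ≤
      (Subgroup.centralizer ({(u : G ⧸ M)} : Set (G ⧸ M))).comap π := by
    intro g hg
    rw [Subgroup.mem_comap, Subgroup.mem_centralizer_singleton_iff]
    have := congrArg π (Subgroup.mem_centralizer_singleton_iff.1 hg)
    rwa [map_mul, map_mul] at this
  have hdvd12 := Subgroup.card_dvd_of_le hCle
  rw [hD] at hdvd12
  have hMle : M.map (QuotientGroup.mk' K) ≤ Subgroup.centralizer ({(u : G ⧸ K)} : Set (G ⧸ K)) := by
    rintro _ ⟨n, hn, rfl⟩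
    rw [Subgroup.mem_centralizer_singleton_iff, QuotientGroup.mk'_apply, ← QuotientGroup.mk_mul,
      ← QuotientGroup.mk_mul, QuotientGroup.eq]
    refine ⟨?_, ?_⟩
    · show ((n * u)⁻¹ * (u * n)) ∈ Codegree.kerSub χ
      rw [Codegree.mem_kerSub, ← hρ]
      have e' : ρ ((n * u)⁻¹ * (u * n)) = ρ 1 := by
        have e1 : ρ (u * n) = ρ (n * u) := by
          rw [map_mul, map_mul, hscal ⟨n, hn⟩]
          exact LinearMap.ext fun v => by simp
        rw [map_mul, e1, ← map_mul, inv_mul_cancel]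
      simp only [Representation.character, e']
    · have : (n * u)⁻¹ * (u * n) = u⁻¹ * n⁻¹ * u * n := by group
      rw [this]
      refine mul_mem ?_ hn
      simpa using (inferInstance : M.Normal).conj_mem n⁻¹ (inv_mem hn) u⁻¹
  have hdvd3 := Subgroup.card_dvd_of_le hMle
  have hM3 : Nat.card (M.map (QuotientGroup.mk' K)) = 3 := by
    have := Cores.card_map_mul_ker (QuotientGroup.mk' K) M (by rw [QuotientGroup.ker_mk']; exact inf_le_right)
    rw [QuotientGroup.ker_mk', hkcard, mul_comm (Nat.card K)] at this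
    exact Nat.eq_of_mul_eq_mul_right (Nat.card_pos (α := K)) this
  rw [hM3] at hdvd3
  have hC := hb.card_centralizer
  have hnp := hb.npair_self
  have hcs := csize_mul (u : G ⧸ K)
  rw [hC] at hdvd12 hdvd3 hcs
  rw [hcardG] at hnp hcs
  obtain ⟨c, hc⟩ : ∃ c, (setC (u : G ⧸ K)).card = c := ⟨_, rfl⟩
  rw [hc] at hdvd12 hdvd3 hcs
  have := Nat.le_of_dvd (by norm_num) hdvd12
  obtain rfl | rfl : c = 0 ∨ c = 1 := by omega
  · norm_num at hdvd3
  · have hh : csize (u : G ⧸ K) = 15 := by omega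
    rw [hh] at hnp
    omega

theorem Hyp.card_centralizer_eq_four (h : Hyp u) (hu : u ∉ M) :
    Nat.card (Subgroup.centralizer ({u} : Set G)) = 4 := by
  classical
  obtain ⟨-, hA2, -, -⟩ := h.quot_facts hu
  have hsub : setA u ⊆ (setA (u : G ⧸ M)).image (Codegree.inflate M) := by
    intro χ hχ
    obtain ⟨ψ, hψ⟩ := Codegree.exists_quot χ M (h.setA_trivial hu hχ)
    refine Finset.mem_image.2 ⟨ψ, mem_setA.2 ((hψ u).trans (mem_setA.1 hχ)), ?_⟩
    exact Subtype.ext (funext fun g => hψ g)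
  have h1 := (Finset.card_le_card hsub).trans Finset.card_image_le
  have h2 := h.card_setA
  rw [h.card_centralizer]
  omega

/-- Lifts of conjugates of the image of `u` are conjugate to `u`. -/
theorem Hyp.isConj_of_lift (h : Hyp u) (hu : u ∉ M) {x : G} (hx : IsConj (u : G ⧸ M) (x : G ⧸ M)) :
    IsConj u x := by
  classical
  obtain ⟨hQ60, -, -, hCQ⟩ := h.quot_facts hu
  have hC := h.card_centralizer_eq_four hu
  set A : Set G := {y | IsConj u y} with hA
  set B : Set G := (QuotientGroup.mk : G → G ⧸ M) ⁻¹' {q | IsConj (u : G ⧸ M) q} with hB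
  have hAB : A ⊆ B := fun y hy => (QuotientGroup.mk' M).map_isConj hy
  have hcA : A.ncard = csize u := by rw [← Nat.card_coe_set_eq]; rfl
  have hcB : B.ncard = Nat.card M * csize (u : G ⧸ M) := by
    rw [← Nat.card_coe_set_eq, hB, Nat.card_congr (QuotientGroup.preimageMkEquivSubgroupProdSet M _),
      Nat.card_prod]
    rfl
  have h1 := csize_mul u
  have h2 := csize_mul (u : G ⧸ M)
  have h3 := Subgroup.card_eq_card_quotient_mul_card_subgroup M
  rw [hC] at h1
  rw [hCQ, hQ60] at h2
  rw [hQ60] at h3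
  have h4 : csize (u : G ⧸ M) = 15 := by omega
  have hle : B.ncard ≤ A.ncard := by rw [hcA, hcB, h4]; omega
  have heq := Set.eq_of_subset_of_ncard_le hAB hle
  have hxB : x ∈ B := hx
  rw [← heq] at hxB
  exact hxB

theorem Hyp.isConj_of_involution_lift (h : Hyp u) (hu : u ∉ M) {x : G}
    (hx : (x : G ⧸ M) * x = 1) (hx1 : (x : G ⧸ M) ≠ 1) : IsConj u x :=
  h.isConj_of_lift hu ((h.quot hu).isConj_involution hx hx1)

theorem Hyp.involution_case (h : Hyp u) (hu : u ∉ M) (h2 : u * u = 1) : M = ⊥ := by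
  classical
  obtain ⟨hQ60, -, -, -⟩ := h.quot_facts hu
  have hq := h.quot hu
  obtain ⟨q, hq2, hq1, hqu, hqc⟩ := hq.exists_t
  obtain ⟨t, rfl⟩ := QuotientGroup.mk_surjective q
  have P : Pair (u : G ⧸ M) (t : G ⧸ M) := ⟨hq.sq_one, hq2, hqc, hq.ne, hq1, hqu, hq.card_sylow⟩
  have hsq : ∀ x : G, (x : G ⧸ M) * x = 1 → (x : G ⧸ M) ≠ 1 → x * x = 1 := by
    intro x hx hx1
    obtain ⟨c, rfl⟩ := isConj_iff.1 (h.isConj_of_involution_lift hu hx hx1)
    calc c * u * c⁻¹ * (c * u * c⁻¹) = c * (u * u) * c⁻¹ := by group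
      _ = 1 := by rw [h2]; group
  have hinv : ∀ x : G, (x : G ⧸ M) * x = 1 → (x : G ⧸ M) ≠ 1 → ∀ m ∈ M, x * m * x = m⁻¹ := by
    intro x hx hx1 m hm
    have e : ((x * m : G) : G ⧸ M) = x := by
      rw [QuotientGroup.mk_mul, (QuotientGroup.eq_one_iff m).2 hm, mul_one]
    have := hsq (x * m) (by rw [e]; exact hx) (by rw [e]; exact hx1)
    rw [eq_inv_iff_mul_eq_one, ← this]
    group
  have hut1 : ((u * t : G) : G ⧸ M) ≠ 1 := P.inv3_ne 2
  have hut2 : ((u * t : G) : G ⧸ M) * (u * t : G) = 1 := P.inv3_sq 2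
  have ht2 := hsq t hq2 hq1
  have hutsq := hsq (u * t) hut2 hut1
  have hct : u * t = t * u := by
    calc u * t = (u * t)⁻¹ := (inv_eq_of_mul_eq_one_right hutsq).symm
      _ = t * u := by rw [mul_inv_rev, inv_eq_of_mul_eq_one_right ht2, inv_eq_of_mul_eq_one_right h2]
  have hMC : ∀ m ∈ M, m * u = u * m := by
    intro m hm
    have e1 := hinv u hq.sq_one hq.ne m hm
    have e2 := hinv t hq2 hq1 m hm
    have e3 := hinv (u * t) hut2 hut1 m hm
    have e4 : u * t * m * (u * t) = m := by
      calc u * t * m * (u * t) = u * (t * m * t) * u := by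
            conv_lhs => arg 2; rw [hct]
            group
        _ = (u * m * u)⁻¹ := by
          rw [e2, mul_inv_rev, mul_inv_rev, inv_eq_of_mul_eq_one_right h2, mul_assoc]
        _ = m := by rw [e1, inv_inv]
    rw [e3.symm.trans e4] at e1
    calc m * u = u * m * u * u := by rw [e1]
      _ = u * m := by rw [mul_assoc (u * m), h2, mul_one]
  have hC := h.card_centralizer_eq_four hu
  set C := Subgroup.centralizer ({u} : Set G)
  have hMle : M ≤ C := fun m hm => Subgroup.mem_centralizer_singleton_iff.2 (hMC m hm)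
  have hcard := Cores.card_map_mul_ker (QuotientGroup.mk' M) C (by rw [QuotientGroup.ker_mk']; exact hMle)
  rw [QuotientGroup.ker_mk', hC] at hcard
  have hfour : four P.hu P.ht P.hc ≤ C.map (QuotientGroup.mk' M) := by
    intro x hx
    rcases hx with rfl | rfl | rfl | rfl
    · exact one_mem _
    · exact ⟨u, Subgroup.mem_centralizer_singleton_iff.2 rfl, rfl⟩
    · exact ⟨t, Subgroup.mem_centralizer_singleton_iff.2 hct.symm, rfl⟩
    · exact ⟨u * t, Subgroup.mem_centralizer_singleton_iff.2 (by rw [mul_assoc, ← hct]), rfl⟩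
  have h4 : 4 ≤ Nat.card (C.map (QuotientGroup.mk' M)) :=
    P.card_four ▸ Nat.le_of_dvd Nat.card_pos (Subgroup.card_dvd_of_le hfour)
  apply Subgroup.eq_bot_of_card_eq
  have hpos : 0 < Nat.card M := Nat.card_pos
  nlinarith

theorem Hyp.order_four_case (h : Hyp u) (hu : u ∉ M) (h2 : u * u ≠ 1) :
    orderOf u = 4 ∧ ∃ N : Subgroup G, N.Normal ∧ oddCore G = N ∧ IsMulCommutative N ∧
      Nonempty (G ⧸ oddCore G ≃* Matrix.SpecialLinearGroup (Fin 2) (ZMod 5)) := by
  classical
  haveI : Fact (Nat.Prime 2) := ⟨Nat.prime_two⟩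
  obtain ⟨hQ60, -, hQsq, -⟩ := h.quot_facts hu
  have hq := h.quot hu
  have hC := h.card_centralizer_eq_four hu
  have hord : orderOf u = 4 := by
    have hd : orderOf u ∣ 4 := hC ▸ Subgroup.orderOf_dvd_natCard _
      (Subgroup.mem_centralizer_singleton_iff.2 rfl)
    have hle := Nat.le_of_dvd (by norm_num) hd
    have h1 : orderOf u ≠ 1 := fun e => h.ne (orderOf_eq_one_iff.1 e)
    have h2' : orderOf u ≠ 2 := fun e => h2 (by rw [← pow_two, ← e, pow_orderOf_eq_one])
    interval_cases orderOf u <;> omega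
  refine ⟨hord, ?_⟩
  set z := u * u with hzdef
  have hzz : z * z = 1 := by
    rw [hzdef, show u * u * (u * u) = u ^ 4 by simp [pow_succ, mul_assoc], ← hord, pow_orderOf_eq_one]
  have hlift : ∀ x : G, (x : G ⧸ M) * x = 1 → (x : G ⧸ M) ≠ 1 →
      orderOf x = 4 ∧ Subgroup.centralizer ({x} : Set G) = Subgroup.zpowers x := by
    intro x hx hx1
    have hc := h.isConj_of_involution_lift hu hx hx1
    have ho : orderOf x = 4 := by
      obtain ⟨c, rfl⟩ := isConj_iff.1 hc
      rw [← hord]
      exact (MulAut.conj c).orderOf_eq u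
    refine ⟨ho, (Subgroup.eq_of_le_of_card_ge ?_ ?_).symm⟩
    · rw [Subgroup.zpowers_le, Subgroup.mem_centralizer_singleton_iff]
    · have e := csize_mul x
      have e' := csize_mul u
      have hcs : csize u = csize x :=
        Nat.card_congr (Equiv.subtypeEquivRight fun y => ⟨fun k => hc.symm.trans k, fun k => hc.trans k⟩)
      rw [← hcs, ← e'] at e
      rw [Nat.eq_of_mul_eq_mul_left (csize_pos u) e, hC, Nat.card_zpowers, ho]
  -- a Sylow subgroup through `u`
  obtain ⟨S, hS⟩ := (IsPGroup.of_card (p := 2) (n := 2)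
    (show Nat.card (Subgroup.zpowers u) = 2 ^ 2 by rw [Nat.card_zpowers, hord]; norm_num)).exists_le_sylow
  have huS : u ∈ (S : Subgroup G) := hS (Subgroup.mem_zpowers u)
  set π := QuotientGroup.mk' M with hπ
  set S' : Sylow 2 (G ⧸ M) := S.mapSurjective (QuotientGroup.mk'_surjective M) with hS'
  have hS'e : (S' : Subgroup (G ⧸ M)) = (S : Subgroup G).map π := rfl
  have hS'4 := hq.card_sylow S'
  have hmem' : ∀ x ∈ (S : Subgroup G), (x : G ⧸ M) * x = 1 := by
    intro x hx
    refine hQsq _ ?_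
    have hcomm := IsPGroup.isMulCommutative_of_card_eq_prime_sq (p := 2) (G := (S' : Subgroup (G ⧸ M)))
      (by rw [hS'4]; norm_num)
    exact congrArg Subtype.val (mul_comm' (⟨(x : G ⧸ M), hS'e ▸ Subgroup.mem_map_of_mem π hx⟩ : (S' : Subgroup (G ⧸ M)))
      ⟨(u : G ⧸ M), hS'e ▸ Subgroup.mem_map_of_mem π huS⟩)
  have hout : ∀ x ∈ (S : Subgroup G), x ∉ M → orderOf x = 4 ∧
      Subgroup.centralizer ({x} : Set G) = Subgroup.zpowers x :=
    fun x hx hxM => hlift x (hmem' x hx) fun e => hxM ((QuotientGroup.eq_one_iff x).1 e)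
  -- the central involution
  haveI : Nontrivial (S : Subgroup G) := ⟨⟨⟨u, huS⟩, 1, fun e => h.ne (congrArg Subtype.val e)⟩⟩
  have hdvd : 2 ∣ Nat.card (Subgroup.center (S : Subgroup G)) := by
    obtain ⟨n, hn, he⟩ := (IsPGroup.nontrivial_iff_card (S.2.to_subgroup _)).1 (IsPGroup.center_nontrivial S.2)
    rw [he]; exact dvd_pow_self 2 hn.ne'
  obtain ⟨⟨⟨w, hwS⟩, hwc⟩, hw⟩ := exists_prime_orderOf_dvd_card' 2 hdvd
  have hwo : orderOf w = 2 := by rwa [Subgroup.orderOf_mk, Subgroup.orderOf_mk] at hw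
  have hwsq : ∀ x ∈ (S : Subgroup G), x ∉ M → x * x = w := by
    intro x hx hxM
    obtain ⟨ho, hcx⟩ := hout x hx hxM
    have hwx : w ∈ Subgroup.centralizer ({x} : Set G) := by
      rw [Subgroup.mem_centralizer_singleton_iff]
      exact (congrArg Subtype.val (Subgroup.mem_center_iff.1 hwc ⟨x, hx⟩)).symm
    rw [hcx] at hwx
    obtain ⟨i, hi, rfl⟩ : ∃ i < 4, x ^ i = w := by
      have := (mem_zpowers_iff_mem_range_orderOf (x := x)).1 hwx
      rw [ho] at this
      simpa using this
    have h4 : orderOf x ∣ i * 2 := by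
      refine orderOf_dvd_of_pow_eq_one ?_
      rw [pow_mul, ← hwo, pow_orderOf_eq_one]
    rw [ho] at h4
    obtain rfl | rfl : i = 0 ∨ i = 2 := by omega
    · rw [pow_zero, orderOf_one] at hwo; norm_num at hwo
    · rw [pow_two]
  have hwz : w = z := (hwsq u huS hu).symm
  -- a second element
  obtain ⟨t, htS, htM, htu⟩ : ∃ t ∈ (S : Subgroup G), t ∉ M ∧ (t : G ⧸ M) ≠ u := by
    by_contra hno
    push Not at hno
    have hle : (S' : Subgroup (G ⧸ M)) ≤ Subgroup.zpowers (u : G ⧸ M) := by
      rw [hS'e]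
      rintro _ ⟨x, hx, rfl⟩
      by_cases hxM : x ∈ M
      · rw [hπ, QuotientGroup.mk'_apply, (QuotientGroup.eq_one_iff x).2 hxM]; exact one_mem _
      · rw [hπ, QuotientGroup.mk'_apply, hno x hx hxM]; exact Subgroup.mem_zpowers _
    have := Nat.le_of_dvd Nat.card_pos (Subgroup.card_dvd_of_le hle)
    rw [hS'4, Nat.card_zpowers, orderOf_eq_prime (p := 2) (by rw [pow_two]; exact hq.sq_one) hq.ne] at this
    omega
  have hutM : u * t ∉ M := fun e => htu (by
    have e1 : (u : G ⧸ M) * t = 1 := (QuotientGroup.eq_one_iff _).2 e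
    calc (t : G ⧸ M) = (u : G ⧸ M) * ((u : G ⧸ M) * t) := by rw [← mul_assoc, hq.sq_one, one_mul]
      _ = u := by rw [e1, mul_one])
  have hutS := mul_mem huS htS
  have hconjP : ∀ p ∈ (S : Subgroup G), p ∈ M → ∀ x ∈ (S : Subgroup G), x ∉ M → x * p * x⁻¹ = p⁻¹ := by
    intro p hp hpM x hx hxM
    have e1 := hwsq (x * p) (mul_mem hx hp) fun e => hxM ((Subgroup.mul_mem_cancel_right M hpM).1 e)
    rw [← hwsq x hx hxM, mul_assoc] at e1
    have e2 : p * (x * p) = x := mul_left_cancel e1
    calc x * p * x⁻¹ = p⁻¹ * (p * (x * p)) * x⁻¹ := by group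
      _ = p⁻¹ := by rw [e2, mul_inv_cancel_right]
  have hPM : ∀ p ∈ (S : Subgroup G), p ∈ M → p = 1 ∨ p = z := by
    intro p hp hpM
    have e1 := hconjP p hp hpM u huS hu
    have e2 := hconjP p hp hpM t htS htM
    have e3 := hconjP p hp hpM _ hutS hutM
    have e4 : u * t * p * (u * t)⁻¹ = p := by
      calc u * t * p * (u * t)⁻¹ = u * (t * p * t⁻¹) * u⁻¹ := by group
        _ = (u * p * u⁻¹)⁻¹ := by rw [e2]; group
        _ = p := by rw [e1, inv_inv]
    have hpp : p⁻¹ = p := e3.symm.trans e4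
    rw [hpp] at e1
    have hpC : p ∈ Subgroup.centralizer ({u} : Set G) := by
      rw [Subgroup.mem_centralizer_singleton_iff]
      exact (mul_inv_eq_iff_eq_mul.1 e1).symm
    rw [(hout u huS hu).2] at hpC
    obtain ⟨i, hi, rfl⟩ : ∃ i < 4, u ^ i = p := by
      have := (mem_zpowers_iff_mem_range_orderOf (x := u)).1 hpC
      rw [hord] at this
      simpa using this
    have heven : i ≠ 1 ∧ i ≠ 3 := by
      refine ⟨fun e => hu (by subst e; simpa using hpM), fun e => hu ?_⟩
      subst e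
      have h3 : u ^ 3 = u⁻¹ := by
        refine eq_inv_of_mul_eq_one_left ?_
        rw [← pow_succ, show (3 : ℕ) + 1 = orderOf u by omega, pow_orderOf_eq_one]
      rw [h3] at hpM
      exact inv_mem_iff.1 hpM
    obtain rfl | rfl : i = 0 ∨ i = 2 := by omega
    · exact Or.inl (pow_zero u)
    · exact Or.inr (pow_two u)
  have hzS : z ∈ (S : Subgroup G) := mul_mem huS huS
  have hzM : z ∈ M := (QuotientGroup.eq_one_iff z).1 (by rw [hzdef, QuotientGroup.mk_mul]; exact hq.sq_one)
  have hSM : Nat.card ((S : Subgroup G) ⊓ M : Subgroup G) = 2 := by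
    have e : (S : Subgroup G) ⊓ M = Subgroup.zpowers z := by
      refine le_antisymm (fun p hp => ?_) ?_
      · rcases hPM p hp.1 hp.2 with e | e
        · rw [e]; exact one_mem _
        · rw [e]; exact Subgroup.mem_zpowers z
      · rw [Subgroup.zpowers_le]; exact ⟨hzS, hzM⟩
    rw [e, Nat.card_zpowers]
    exact orderOf_eq_prime (by rw [pow_two]; exact hzz) h2
  have hS8 : Nat.card (S : Subgroup G) = 8 := by
    let f := π.comp (S : Subgroup G).subtype
    have h1 := Subgroup.card_mul_index f.ker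
    rw [Subgroup.index_ker, MonoidHom.range_comp, Subgroup.range_subtype] at h1
    rw [← h1, show f.ker = ((S : Subgroup G) ⊓ M).subgroupOf (S : Subgroup G) by
      ext a; simp [f, π, Subgroup.mem_subgroupOf, QuotientGroup.eq_one_iff],
      Nat.card_congr (Subgroup.subgroupOfEquivOfLe (inf_le_left : (S : Subgroup G) ⊓ M ≤ S)).toEquiv, hSM,
      ← hS'e, hS'4]
  -- `M` has twice odd order
  have hM2 : ∃ r, Odd r ∧ Nat.card M = 2 * r := by
    obtain ⟨k, hk⟩ := (S : Subgroup G).card_subgroup_dvd_card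
    have hkodd : Odd k := by
      have h1 := S.not_dvd_index
      have h2' := Subgroup.card_mul_index (S : Subgroup G)
      rw [hk] at h2'
      rw [Nat.eq_of_mul_eq_mul_left Nat.card_pos h2'] at h1
      exact Nat.odd_iff.2 (by omega)
    have h3 := Subgroup.card_eq_card_quotient_mul_card_subgroup M
    rw [hk, hS8, hQ60] at h3
    obtain ⟨l, hl⟩ := hkodd
    refine ⟨Nat.card M / 2, Nat.odd_iff.2 ?_, ?_⟩ <;> omega
  obtain ⟨r, hr, hMr⟩ := hM2
  obtain ⟨T⟩ : Nonempty (Sylow 2 M) := inferInstance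
  have hT2 : Nat.card (T : Subgroup M) = 2 := by
    rw [T.card_eq_multiplicity, hMr, Nat.factorization_mul (by norm_num) (by obtain ⟨l, rfl⟩ := hr; omega)]
    simp [Nat.prime_two.factorization, Nat.factorization_eq_zero_of_not_dvd
      (show ¬ 2 ∣ r by rw [Nat.two_dvd_ne_zero]; exact Nat.odd_iff.1 hr)]
  have hmin : (Nat.card M).minFac = 2 := (Nat.minFac_eq_two_iff _).2 (hMr ▸ dvd_mul_right 2 r)
  have hcyc : IsCyclic (T : Subgroup M) := isCyclic_of_prime_card hT2
  have hcompl := IsCyclic.isComplement' hmin hcyc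
  set N₀ := (MonoidHom.transferSylow T (IsCyclic.normalizer_le_centralizer hmin hcyc)).ker with hN₀
  have hN₀2 : N₀.index = 2 := by rw [hcompl.symm.index_eq_card, hT2]
  have hN₀odd : Odd (Nat.card N₀) := by
    have e := hcompl.card_mul
    rw [hT2, hMr] at e
    rwa [show Nat.card N₀ = r by omega]
  have hmemN : ∀ x : M, x ∈ N₀ ↔ Odd (orderOf x) := by
    intro x
    refine ⟨fun hx => hN₀odd.of_dvd_nat (Subgroup.orderOf_dvd_natCard N₀ hx), fun ho => ?_⟩
    obtain ⟨l, hl⟩ := ho
    have e : (x ^ 2) ^ (l + 1) = x := by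
      rw [← pow_mul, show 2 * (l + 1) = orderOf x + 1 by omega, pow_succ, pow_orderOf_eq_one, one_mul]
    rw [← e]
    exact pow_mem (Subgroup.sq_mem_of_index_two hN₀2 x) _
  set N : Subgroup G := N₀.map M.subtype with hNdef
  have hNmem : ∀ x, x ∈ N ↔ x ∈ M ∧ Odd (orderOf x) := by
    intro x
    constructor
    · rintro ⟨a, ha, rfl⟩
      refine ⟨a.2, ?_⟩
      rw [Subgroup.coe_subtype, Subgroup.orderOf_coe]
      exact (hmemN a).1 ha
    · rintro ⟨hxM, hxo⟩
      exact ⟨⟨x, hxM⟩, (hmemN _).2 (by rwa [Subgroup.orderOf_mk]), rfl⟩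
  have hNn : N.Normal := ⟨fun x hx g => by
    rw [hNmem] at hx ⊢
    refine ⟨(inferInstance : M.Normal).conj_mem x hx.1 g, ?_⟩
    have : orderOf (MulAut.conj g x) = orderOf x := (MulAut.conj g).orderOf_eq x
    rw [MulAut.conj_apply] at this
    rw [this]; exact hx.2⟩
  have hNcard : Nat.card N = Nat.card N₀ := Subgroup.card_map_of_injective M.subtype_injective
  have hNodd : Odd (Nat.card N) := hNcard ▸ hN₀odd
  have hzN : z ∉ N := fun e => by
    have h' := ((hNmem z).1 e).2
    rw [orderOf_eq_prime (p := 2) (by rw [pow_two]; exact hzz) h2, Nat.odd_iff] at h'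
    omega
  -- `z` has no fixed points on `N`
  have hK : ∀ k ∈ N, z * k = k * z → k = 1 := by
    intro k hk hzk
    have key : ∀ x ∈ (S : Subgroup G), x ∉ M → x⁻¹ * k * x = k⁻¹ := by
      intro x hx hxM
      have hxx : x * x = z := (hwsq x hx hxM).trans hwz
      have hxk : ((x * k : G) : G ⧸ M) = x := by
        rw [QuotientGroup.mk_mul, (QuotientGroup.eq_one_iff k).2 ((hNmem k).1 hk).1, mul_one]
      obtain ⟨ho, -⟩ := hlift (x * k) (by rw [hxk]; exact hmem' x hx)
        (by rw [hxk]; exact fun e => hxM ((QuotientGroup.eq_one_iff x).1 e))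
      set y := x⁻¹ * k * x * k with hy
      have hyN : y ∈ N := mul_mem (by simpa using hNn.conj_mem k hk x⁻¹) hk
      have hsq : x * k * (x * k) = z * y := by rw [hy, ← hxx]; group
      have hxz : Commute x z := by rw [← hxx]; exact (Commute.refl x).mul_right (Commute.refl x)
      have hyz : z * y = y * z :=
        (((hxz.symm.inv_right).mul_right hzk).mul_right hxz.symm).mul_right hzk |>.eq
      have hy2 : y * y = 1 := by
        calc y * y = (z * z) * (y * y) := by rw [hzz, one_mul]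
          _ = z * y * (z * y) := by
            rw [mul_assoc z y, ← mul_assoc y z, ← hyz]; group
          _ = (x * k) ^ 4 := by rw [← hsq]; simp [pow_succ, mul_assoc]
          _ = 1 := by rw [← ho, pow_orderOf_eq_one]
      have hy1 : y = 1 := by
        obtain ⟨l, hl⟩ := hNodd.of_dvd_nat (Subgroup.orderOf_dvd_natCard N hyN)
        have := pow_orderOf_eq_one y
        rwa [hl, pow_succ, pow_mul, pow_two, hy2, one_pow, one_mul] at this
      exact eq_inv_of_mul_eq_one_left hy1
    have e1 := key u huS hu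
    have e2 := key t htS htM
    have e3 := key _ hutS hutM
    have e4 : (u * t)⁻¹ * k * (u * t) = k := by
      calc (u * t)⁻¹ * k * (u * t) = t⁻¹ * (u⁻¹ * k * u) * t := by group
        _ = (t⁻¹ * k * t)⁻¹ := by rw [e1]; group
        _ = k := by rw [e2, inv_inv]
    have hkk : k * k = 1 := by
      conv_lhs => arg 1; rw [← e4, e3]
      exact inv_mul_cancel k
    obtain ⟨l, hl⟩ := hNodd.of_dvd_nat (Subgroup.orderOf_dvd_natCard N hk)
    have := pow_orderOf_eq_one k
    rwa [hl, pow_succ, pow_mul, pow_two, hkk, one_pow, one_mul] at this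
  have hcommN : IsMulCommutative N := by
    haveI := hNn
    let φ : N →* N := (MulAut.conjNormal z : MulAut N).toMonoidHom
    have hφ : ∀ n : N, ((φ n : N) : G) = z * n * z⁻¹ := fun n => MulAut.conjNormal_apply z n
    have hfpf : MonoidHom.FixedPointFree φ := fun n hn => Subtype.ext (hK n n.2 (by
      have := congrArg Subtype.val hn
      rw [hφ] at this
      exact mul_inv_eq_iff_eq_mul.1 this))
    have hinvol : Function.Involutive φ := fun n => Subtype.ext (by
      rw [hφ, hφ, show z * (z * n * z⁻¹) * z⁻¹ = z * z * n * (z * z)⁻¹ by group, hzz]; simp)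
    exact ⟨⟨fun a b => hfpf.commute_all_of_involutive hinvol a b⟩⟩
  have hoc : oddCore G = N := by
    refine le_antisymm ?_ (Cores.le_pPrimeCore hNn (Nat.coprime_two_right.2 hNodd))
    intro x hx
    have hodd : Odd (Nat.card (oddCore G)) := Nat.coprime_two_right.1 (Cores.coprime_card_pPrimeCore 2)
    rw [hNmem]
    refine ⟨?_, hodd.of_dvd_nat (Subgroup.orderOf_dvd_natCard _ hx)⟩
    have hn : ((oddCore G).map π).Normal :=
      Subgroup.Normal.map inferInstance π (QuotientGroup.mk'_surjective M)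
    rcases IsSimpleGroup.eq_bot_or_eq_top_of_normal _ hn with e | e
    · rw [Subgroup.map_eq_bot_iff, hπ, QuotientGroup.ker_mk'] at e
      exact e hx
    · exfalso
      have hd := Subgroup.card_map_dvd (oddCore G) π
      rw [e, Subgroup.card_top, hQ60] at hd
      have := hodd.of_dvd_nat hd
      rw [Nat.odd_iff] at this
      norm_num at this
  refine ⟨N, hNn, hoc, hcommN, ?_⟩
  haveI := hNn
  suffices hSL : Nonempty (G ⧸ N ≃* Matrix.SpecialLinearGroup (Fin 2) (ZMod 5)) by
    obtain ⟨e⟩ := hSL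
    exact ⟨(QuotientGroup.quotientMulEquivOfEq hoc).trans e⟩
  have hG120 : Nat.card (G ⧸ N) = 120 := by
    have e1 := Subgroup.card_eq_card_quotient_mul_card_subgroup N
    have e2 := Subgroup.card_eq_card_quotient_mul_card_subgroup M
    have e3 := Subgroup.card_mul_index N₀
    rw [hN₀2, ← hNcard] at e3
    rw [hQ60, ← e3] at e2
    rw [e2] at e1
    exact Nat.eq_of_mul_eq_mul_right (Nat.card_pos (α := N)) (by rw [← e1]; ring)
  have huN : u ∉ N := fun e => hu ((hNmem u).1 e).1
  have hbar := h.quot huN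
  refine S3378.result.1 (G ⧸ N) hG120 ?_ fun P => ?_
  · intro hsol
    haveI : Nontrivial (G ⧸ N) := ⟨⟨(u : G ⧸ N), 1, hbar.ne⟩⟩
    exact (Group.IsSolvable.commutator_lt_top_of_nontrivial (G := G ⧸ N)).ne hbar.perfect
  · let P' : Sylow 2 (G ⧸ N) := S.mapSurjective (QuotientGroup.mk'_surjective N)
    have hinj : Function.Injective ((QuotientGroup.mk' N).comp (S : Subgroup G).subtype) := by
      rw [injective_iff_map_eq_one]
      intro a ha
      have haN : (a : G) ∈ N := (QuotientGroup.eq_one_iff _).1 ha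
      rcases hPM a a.2 ((hNmem a).1 haN).1 with e | e
      · exact Subtype.ext e
      · exact absurd (e ▸ haN) hzN
    have hrange : ((QuotientGroup.mk' N).comp (S : Subgroup G).subtype).range = (P' : Subgroup (G ⧸ N)) := by
      rw [MonoidHom.range_comp, Subgroup.range_subtype]; rfl
    have e1 : (S : Subgroup G) ≃* (P : Subgroup (G ⧸ N)) :=
      ((MonoidHom.ofInjective hinj).trans (MulEquiv.subgroupCongr hrange)).trans (Sylow.equiv P' P)
    have huniq : ∀ H K : Subgroup (S : Subgroup G), Nat.card H = 2 → Nat.card K = 2 → H = K := by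
      have key : ∀ H : Subgroup (S : Subgroup G), Nat.card H = 2 →
          H = Subgroup.zpowers (⟨z, hzS⟩ : (S : Subgroup G)) := by
        intro H hH
        obtain ⟨⟨v, hv⟩, hvo⟩ := exists_prime_orderOf_dvd_card' 2 (dvd_of_eq hH.symm)
        have hvo' : orderOf (v : G) = 2 := by rwa [Subgroup.orderOf_coe, ← Subgroup.orderOf_mk v hv]
        have hvM : (v : G) ∈ M := by
          by_contra hvM
          rw [(hout v v.2 hvM).1] at hvo'
          norm_num at hvo'
        have hvz : v = ⟨z, hzS⟩ := by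
          rcases hPM v v.2 hvM with e | e
          · rw [e, orderOf_one] at hvo'; norm_num at hvo'
          · exact Subtype.ext e
        refine (Subgroup.eq_of_le_of_card_ge ?_ ?_).symm
        · rw [Subgroup.zpowers_le, ← hvz]; exact hv
        · rw [hH, Nat.card_zpowers, ← hvz, ← Subgroup.orderOf_coe, hvo']
      intro H K hH hK'
      rw [key H hH, key K hK']
    rcases S0016.result 2 S.2 huniq with hc | ⟨-, n, ⟨e2⟩⟩
    · exfalso
      haveI := hc.isMulCommutative
      have hcm : t * u = u * t := congrArg Subtype.val (mul_comm' (⟨t, htS⟩ : (S : Subgroup G)) ⟨u, huS⟩)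
      have htC : t ∈ Subgroup.centralizer ({u} : Set G) := Subgroup.mem_centralizer_singleton_iff.2 hcm
      rw [(hout u huS hu).2] at htC
      obtain ⟨i, rfl⟩ := Subgroup.mem_zpowers_iff.1 htC
      rcases Int.even_or_odd i with ⟨l, rfl⟩ | ⟨l, rfl⟩
      · apply htM
        rw [← two_mul, zpow_mul, zpow_two]
        exact zpow_mem hzM l
      · apply htu
        rw [zpow_add, zpow_mul, zpow_two, zpow_one, QuotientGroup.mk_mul,
          (QuotientGroup.eq_one_iff (z ^ l)).2 (zpow_mem hzM l), one_mul]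
    · have hn1 : n = 1 := by
        have := Nat.card_congr e2.toEquiv
        rw [hS8, Nat.card_eq_fintype_card, QuaternionGroup.card] at this
        have h' : 2 ^ n = 2 ^ 1 := by rw [pow_one]; omega
        exact Nat.pow_right_injective le_rfl h'
      subst hn1
      exact ⟨e1.symm.trans e2⟩

end Cfsg.Agent.FourConst
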